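/-
Field lemmas for Suzuki 2-groups with a solvable transitive group of automorphisms: maps that are
equivariant for the multiplications by `n`-th powers in the field with `2 ^ n` elements.
-/
import Cfsg.Agent.Suz.HigmanField

set_option autoImplicit false

namespace CL.Shaw

open CL.Higman Finset

theorem two_pow_aux {a b c d : ℕ} (hab : a ≤ b) (h : 2 ^ a + 2 ^ b = 2 ^ c + 2 ^ d) : d ≤ b := by
  by_contra hlt
  have h1 : 2 ^ a ≤ 2 ^ b := Nat.pow_le_pow_right (by norm_num) hab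
  have h2 : 2 ^ (b + 1) ≤ 2 ^ d := Nat.pow_le_pow_right (by norm_num) (by omega)
  have h3 : 0 < 2 ^ c := Nat.two_pow_pos c
  rw [pow_succ] at h2
  omega

theorem two_pow_aux' {a b c d : ℕ} (hab : a ≤ b) (hcd : c ≤ d) (h : 2 ^ a + 2 ^ b = 2 ^ c + 2 ^ d) :
    a = c ∧ b = d := by
  have h1 : b = d := le_antisymm (two_pow_aux hcd h.symm) (two_pow_aux hab h)
  subst h1
  exact ⟨Nat.pow_right_injective le_rfl (Nat.add_right_cancel h), rfl⟩

theorem two_pow_add_inj {a b c d : ℕ} (h : 2 ^ a + 2 ^ b = 2 ^ c + 2 ^ d) :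
    (a = c ∧ b = d) ∨ (a = d ∧ b = c) := by
  rcases le_total a b with h1 | h1 <;> rcases le_total c d with h2 | h2
  · exact Or.inl (two_pow_aux' h1 h2 h)
  · exact Or.inr (two_pow_aux' h1 h2 (by omega))
  · exact Or.inr (two_pow_aux' h1 h2 (by omega)).symm
  · exact Or.inl (two_pow_aux' h1 h2 (by omega)).symm

theorem card_bad {n : ℕ} (L a : ℕ) :
    ((range n).filter fun t => n - L ≤ (a + t) % n).card ≤ L := by
  refine (Finset.card_le_card_of_injOn (t := Ico (n - L) n) (fun t => (a + t) % n) ?_ ?_).trans ?_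
  · intro t ht
    simp only [coe_filter, mem_range, Set.mem_ofPred_eq] at ht
    simp only [coe_Ico, Set.mem_Ico]
    exact ⟨ht.2, Nat.mod_lt _ (by omega)⟩
  · intro t ht t' ht' e
    simp only [coe_filter, mem_range, Set.mem_ofPred_eq] at ht ht'
    exact Nat.ModEq.eq_of_lt_of_lt (Nat.ModEq.add_left_cancel' a e) ht.1 ht'.1
  · rw [Nat.card_Ico]; omega

theorem exists_shift {n : ℕ} (hn : 0 < n) (a b c d : ℕ) :
    ∃ t, (a + t) % n < n - (n - 1) / 4 ∧ (b + t) % n < n - (n - 1) / 4 ∧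
      (c + t) % n < n - (n - 1) / 4 ∧ (d + t) % n < n - (n - 1) / 4 := by
  by_contra hc
  push Not at hc
  let bad : ℕ → Finset ℕ := fun x => (range n).filter fun t => n - (n - 1) / 4 ≤ (x + t) % n
  have hsub : range n ⊆ bad a ∪ bad b ∪ bad c ∪ bad d := by
    intro t ht
    simp only [bad, mem_union, mem_filter, ht, true_and]
    have := hc t
    omega
  have h1 := Finset.card_le_card hsub
  have h2 := Finset.card_union_le (bad a ∪ bad b ∪ bad c) (bad d)
  have h3 := Finset.card_union_le (bad a ∪ bad b) (bad c)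
  have h4 := Finset.card_union_le (bad a) (bad b)
  have ha : (bad a).card ≤ _ := card_bad (n := n) ((n - 1) / 4) a
  have hb : (bad b).card ≤ _ := card_bad (n := n) ((n - 1) / 4) b
  have hc' : (bad c).card ≤ _ := card_bad (n := n) ((n - 1) / 4) c
  have hd : (bad d).card ≤ _ := card_bad (n := n) ((n - 1) / 4) d
  rw [card_range] at h1
  omega

theorem two_pow_modEq (n k : ℕ) : 2 ^ k ≡ 2 ^ (k % n) [MOD 2 ^ n - 1] := by
  have h1 : 2 ^ n ≡ 1 [MOD 2 ^ n - 1] :=
    ((Nat.modEq_iff_dvd' (Nat.one_le_two_pow (n := n))).2 dvd_rfl).symm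
  conv_lhs => rw [← Nat.div_add_mod k n, pow_add, pow_mul]
  simpa using (h1.pow (k / n)).mul_right (2 ^ (k % n))

theorem four_mul_le {L : ℕ} (h : 5 ≤ L) : 4 * L + 6 ≤ 2 ^ L := by
  induction L, h using Nat.le_induction with
  | base => norm_num
  | succ L _ ih => rw [pow_succ]; omega

theorem digit {n : ℕ} (hn : 21 ≤ n) {a b c d : ℕ}
    (h : n * (2 ^ a + 2 ^ b) ≡ n * (2 ^ c + 2 ^ d) [MOD 2 ^ n - 1]) :
    (a ≡ c [MOD n] ∧ b ≡ d [MOD n]) ∨ (a ≡ d [MOD n] ∧ b ≡ c [MOD n]) := by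
  obtain ⟨t, ha, hb, hc, hd⟩ := exists_shift (n := n) (by omega) a b c d
  have key : ∀ x y : ℕ, n * (2 ^ x + 2 ^ y) * 2 ^ t ≡ n * (2 ^ ((x + t) % n) + 2 ^ ((y + t) % n))
      [MOD 2 ^ n - 1] := fun x y => by
    rw [mul_assoc, add_mul, ← pow_add, ← pow_add]
    exact ((two_pow_modEq n _).add (two_pow_modEq n _)).mul_left n
  have h1 := ((key a b).symm.trans (h.mul_right _)).trans (key c d)
  obtain ⟨L, hL⟩ : ∃ L, L = (n - 1) / 4 := ⟨_, rfl⟩
  rw [← hL] at ha hb hc hd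
  have h2 := four_mul_le (L := L) (by omega)
  obtain ⟨m, hm⟩ : ∃ m, n = L + (m + 1) := ⟨n - L - 1, by omega⟩
  have bound : ∀ x y : ℕ, x < n - L → y < n - L → n * (2 ^ x + 2 ^ y) < 2 ^ n - 1 := fun x y hx hy => by
    have e1 : 2 ^ x ≤ 2 ^ m := Nat.pow_le_pow_right (by norm_num) (by omega)
    have e2 : 2 ^ y ≤ 2 ^ m := Nat.pow_le_pow_right (by norm_num) (by omega)
    have e3 : 2 ^ n = 2 ^ L * (2 ^ m * 2) := by rw [hm, pow_add, pow_succ]
    have e4 : 0 < 2 ^ m := Nat.two_pow_pos m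
    have e5 : n * (2 ^ x + 2 ^ y) ≤ n * (2 ^ m * 2) := Nat.mul_le_mul_left _ (by omega)
    have e6 : (n + 2) * (2 ^ m * 2) ≤ 2 ^ L * (2 ^ m * 2) := Nat.mul_le_mul_right _ (by omega)
    rw [add_mul] at e6
    omega
  have h3 := Nat.eq_of_mul_eq_mul_left (by omega : 0 < n)
    (h1.eq_of_lt_of_lt (bound _ _ ha hb) (bound _ _ hc hd))
  rcases two_pow_add_inj h3 with ⟨e1, e2⟩ | ⟨e1, e2⟩
  · exact Or.inl ⟨Nat.ModEq.add_right_cancel' t e1, Nat.ModEq.add_right_cancel' t e2⟩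
  · exact Or.inr ⟨Nat.ModEq.add_right_cancel' t e1, Nat.ModEq.add_right_cancel' t e2⟩

set_option synthInstance.maxSize 2000 in
set_option synthInstance.maxHeartbeats 200000 in
theorem small1 : ∀ n < 21, 2 ≤ n → ∀ i < n, ∀ j < n,
    n * (2 ^ i + 2 ^ j) % (2 ^ n - 1) = n * 1 % (2 ^ n - 1) → i + 1 = n ∧ j + 1 = n := by
  decide +kernel

set_option synthInstance.maxSize 2000 in
set_option synthInstance.maxHeartbeats 200000 in
theorem small2 : ∀ n < 21, 2 ≤ n → ∀ r < n, ∀ s < n, ∀ t < n,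
    n * (2 ^ r + 2 ^ t) % (2 ^ n - 1) = n * (1 + 2 ^ (s + r)) % (2 ^ n - 1) → s = t := by
  decide +kernel

theorem num1 {n : ℕ} (hn : 2 ≤ n) {i j : ℕ} (hi : i < n) (hj : j < n)
    (h : n * (2 ^ i + 2 ^ j) ≡ n * 1 [MOD 2 ^ n - 1]) : i + 1 = n ∧ j + 1 = n := by
  by_cases h1 : n < 21
  · exact small1 n h1 hn i hi j hj h
  have h2 : n * 1 ≡ n * (2 ^ (n - 1) + 2 ^ (n - 1)) [MOD 2 ^ n - 1] := by
    rw [← two_mul, ← pow_succ', Nat.sub_add_cancel (by omega)]
    exact ((Nat.modEq_iff_dvd' (Nat.one_le_two_pow (n := n))).2 dvd_rfl).mul_left n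
  rcases digit (by omega) (h.trans h2) with ⟨e1, e2⟩ | ⟨e1, e2⟩ <;>
  · have e3 := e1.eq_of_lt_of_lt hi (by omega)
    have e4 := e2.eq_of_lt_of_lt hj (by omega)
    omega

theorem num2 {n : ℕ} (hn : 2 ≤ n) {r s t : ℕ} (hr : r < n) (hs : s < n) (ht : t < n)
    (h : n * (2 ^ r + 2 ^ t) ≡ n * (1 + 2 ^ (s + r)) [MOD 2 ^ n - 1]) : s = t := by
  by_cases h1 : n < 21
  · exact small2 n h1 hn r hr s hs t ht h
  rcases digit (c := 0) (by omega) h with ⟨e1, e2⟩ | ⟨e1, e2⟩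
  · have e3 := e1.eq_of_lt_of_lt hr (by omega)
    subst e3
    exact (e2.eq_of_lt_of_lt ht hs).symm
  · have e3 := e2.eq_of_lt_of_lt ht (by omega)
    have e4 : 0 ≡ s [MOD n] := Nat.ModEq.add_right_cancel' r (by simpa using e1)
    have e5 := e4.eq_of_lt_of_lt (by omega) hs
    omega

variable {F : Type*} [Field F] [Finite F] [CharP F 2] {n : ℕ}

theorem finrank_eq (hF : Nat.card F = 2 ^ n) [Algebra (ZMod 2) F] : Module.finrank (ZMod 2) F = n := by
  have h := Module.natCard_eq_pow_finrank (K := ZMod 2) (V := F)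
  rw [Nat.card_zmod, hF] at h
  exact (Nat.pow_right_injective le_rfl h).symm

/-- Ring automorphisms are automorphisms over the prime field. -/
def autEquiv (F : Type*) [Field F] [Algebra (ZMod 2) F] : (F ≃ₐ[ZMod 2] F) ≃ (F ≃+* F) where
  toFun := fun σ => σ.toRingEquiv
  invFun := fun σ => AlgEquiv.ofRingEquiv (f := σ) (fun r => by
    have : (σ : F →+* F).comp (algebraMap (ZMod 2) F) = algebraMap (ZMod 2) F := Subsingleton.elim _ _
    exact DFunLike.congr_fun this r)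
  left_inv := fun _ => rfl
  right_inv := fun _ => rfl

theorem card_aut (hF : Nat.card F = 2 ^ n) : Nat.card (F ≃+* F) = n := by
  let _ : Algebra (ZMod 2) F := ZMod.algebra F 2
  rw [← Nat.card_congr (autEquiv F), IsGalois.card_aut_eq_finrank, finrank_eq hF]

theorem exists_exp (hF : Nat.card F = 2 ^ n) (σ : F ≃+* F) : ∃ i < n, ∀ x, σ x = x ^ 2 ^ i := by
  let _ : Algebra (ZMod 2) F := ZMod.algebra F 2
  obtain ⟨⟨i, hi⟩, h⟩ := (FiniteField.bijective_frobeniusAlgEquivOfAlgebraic_pow (ZMod 2) F).2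
    ((autEquiv F).symm σ)
  refine ⟨i, finrank_eq hF ▸ hi, fun x => ?_⟩
  have := DFunLike.congr_fun h x
  simp only [AlgEquiv.coe_pow, FiniteField.coe_frobeniusAlgEquivOfAlgebraic, pow_iterate, ZMod.card] at this
  exact this.symm

theorem aut_comm (σ τ : F ≃+* F) (x : F) : σ (τ x) = τ (σ x) := by
  have := Fintype.ofFinite F
  obtain ⟨n, -, hn⟩ := FiniteField.card F 2
  obtain ⟨i, -, hi⟩ := exists_exp (n := n) (by rw [Nat.card_eq_fintype_card, hn]) σ
  rw [hi, hi, map_pow]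

omit [CharP F 2] in
theorem modEq_of_forall (hF : Nat.card F = 2 ^ n) {A B : ℕ} (h : ∀ x : F, x ≠ 0 → x ^ A = x ^ B) :
    A ≡ B [MOD 2 ^ n - 1] := by
  obtain ⟨g, hg⟩ := IsCyclic.exists_ofOrder_eq_natCard (α := Fˣ)
  rw [Nat.card_units, hF] at hg
  rw [← hg, ← pow_eq_pow_iff_modEq]
  ext
  simpa using h g g.ne_zero

/-- There is no nonzero alternating equivariant map `W × W → W`. -/
theorem alt_zero (hF : Nat.card F = 2 ^ n) (hn : 2 ≤ n) (B : F →+ F →+ F)
    (h : ∀ x : F, x ≠ 0 → ∀ s t, B (x ^ n * s) (x ^ n * t) = x ^ n * B s t) (halt : ∀ s, B s s = 0)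
    (s t : F) : B s t = 0 := by
  obtain ⟨c, hc⟩ := exists_repr₂ B
  have key : ∀ p, c p ≠ 0 → (∀ x, p.1 x = x ^ 2 ^ (n - 1)) ∧ ∀ x, p.2 x = x ^ 2 ^ (n - 1) := by
    intro p hp
    obtain ⟨i, hi, ei⟩ := exists_exp hF p.1
    obtain ⟨j, hj, ej⟩ := exists_exp hF p.2
    have h1 := modEq_of_forall hF (A := n * (2 ^ i + 2 ^ j)) (B := n * 1) fun x hx => by
      have := coeff₂_eq_zero (fun p => c p * (p.1 (x ^ n) * p.2 (x ^ n) - x ^ n)) (fun s t => by
        have h1 := h x hx s t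
        rw [hc, hc, Finset.mul_sum, ← sub_eq_zero, ← Finset.sum_sub_distrib] at h1
        rw [← h1]
        exact Finset.sum_congr rfl fun p _ => by simp only [map_mul]; ring) p
      have h2 := sub_eq_zero.1 ((mul_eq_zero.1 this).resolve_left hp)
      rw [ei, ej] at h2
      rw [pow_mul, pow_add, h2, mul_one]
    obtain ⟨e1, e2⟩ := num1 hn hi hj h1
    obtain rfl : i = n - 1 := by omega
    obtain rfl : j = n - 1 := by omega
    exact ⟨ei, ej⟩
  by_contra hst
  rw [hc] at hst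
  obtain ⟨p, -, hp⟩ := Finset.exists_ne_zero_of_sum_ne_zero hst
  have hp' := left_ne_zero_of_mul hp
  have h1 := halt 1
  rw [hc, Finset.sum_eq_single p] at h1
  · exact hp' (by simpa using h1)
  · intro q _ hq
    by_contra h0
    have h2 := key q (left_ne_zero_of_mul h0)
    have h3 := key p hp'
    exact hq (Prod.ext (RingEquiv.ext fun x => by rw [h2.1, h3.1]) (RingEquiv.ext fun x => by rw [h2.2, h3.2]))
  · simp

/-- The twisted modules `F σ` are pairwise non-isomorphic. -/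
theorem aut_eq (hF : Nat.card F = 2 ^ n) (hn : 2 ≤ n) (f : F →+ F) {σ τ : F ≃+* F}
    (h : ∀ x : F, x ≠ 0 → ∀ t, f (x ^ n * t) * τ (x ^ n) = x ^ n * f (σ (x ^ n) * t)) {t : F}
    (ht : f t ≠ 0) : σ = τ := by
  obtain ⟨c, hc⟩ := exists_repr f
  rw [hc] at ht
  obtain ⟨ρ, -, hρ⟩ := Finset.exists_ne_zero_of_sum_ne_zero ht
  obtain ⟨r, hr, er⟩ := exists_exp hF ρ
  obtain ⟨i, hi, ei⟩ := exists_exp hF σ
  obtain ⟨j, hj, ej⟩ := exists_exp hF τ
  have h1 := modEq_of_forall hF (A := n * (2 ^ r + 2 ^ j)) (B := n * (1 + 2 ^ (i + r))) fun x hx => by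
    have := coeff_eq_zero (fun ρ => c ρ * (ρ (x ^ n) * τ (x ^ n) - x ^ n * ρ (σ (x ^ n)))) (fun t => by
      have h1 := h x hx t
      rw [hc, hc, Finset.mul_sum, Finset.sum_mul, ← sub_eq_zero, ← Finset.sum_sub_distrib] at h1
      rw [← h1]
      exact Finset.sum_congr rfl fun p _ => by simp only [map_mul]; ring) ρ
    have h2 := sub_eq_zero.1 ((mul_eq_zero.1 this).resolve_left (left_ne_zero_of_mul hρ))
    rw [er, er, ei, ej] at h2
    rw [pow_mul, pow_add, h2, pow_mul, pow_add, pow_one, pow_add, pow_mul]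
  have := num2 hn hr hi hj h1
  subst this
  exact RingEquiv.ext fun x => by rw [ei, ej]

/-- A transitive semilinear group contains the multiplications by `n`-th powers. -/
theorem exists_scalar {Y : Type*} [Group Y] (hF : Nat.card F = 2 ^ n) (ρ : Y → F → F)
    (hmul : ∀ g h x, ρ (g * h) x = ρ g (ρ h x)) (h1 : ∀ x, ρ 1 x = x)
    (hsemi : ∀ g, ∃ (c : F) (σ : F ≃+* F), ∀ x, ρ g x = c * σ x)
    (htr : ∀ x : F, x ≠ 0 → ∃ g, ρ g 1 = x) {x : F} (hx : x ≠ 0) : ∃ g, ∀ t, ρ g t = x ^ n * t := by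
  choose c σ hcσ using hsemi
  have hc0 : ∀ g, c g ≠ 0 := fun g h0 => by
    have := hmul g g⁻¹ 1
    rw [mul_inv_cancel, h1, hcσ, h0, zero_mul] at this
    exact one_ne_zero this
  have hc1 : c 1 = 1 := by simpa [hcσ] using h1 1
  have hcm : ∀ g h, c (g * h) = c g * σ g (c h) := fun g h => by simpa [hcσ] using hmul g h 1
  let φ : Y →* (F ≃+* F) := MonoidHom.mk' σ fun g h => RingEquiv.ext fun x => by
    have := hmul g h x
    rw [hcσ, hcσ, hcσ, hcm, map_mul, mul_assoc] at this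
    exact mul_left_cancel₀ (by simpa using hc0 h) (mul_left_cancel₀ (hc0 g) this)
  let a : Y → Fˣ := fun g => Units.mk0 (c g) (hc0 g)
  let A : Subgroup Fˣ :=
    { carrier := {z | ∃ g, ∀ t, ρ g t = z * t}
      mul_mem' := by
        rintro z w ⟨g, hg⟩ ⟨h, hh⟩
        exact ⟨g * h, fun t => by rw [hmul, hg, hh, Units.val_mul, mul_assoc]⟩
      one_mem' := ⟨1, fun t => by simp [h1]⟩
      inv_mem' := by
        rintro z ⟨g, hg⟩
        refine ⟨g⁻¹, fun t => ?_⟩
        have := hmul g g⁻¹ t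
        rw [mul_inv_cancel, h1, hg] at this
        rw [Units.eq_inv_mul_iff_mul_eq, ← this] }
  have hA : ∀ (τ : F ≃+* F) (z w : Fˣ), z ∈ A → (w : F) = τ z → w ∈ A := fun τ z w hz hw => by
    obtain ⟨i, -, hi⟩ := exists_exp hF τ
    have : w = z ^ 2 ^ i := by ext; rw [hw, hi, Units.val_pow_eq_pow_val]
    rw [this]; exact A.pow_mem hz _
  have hinv : ∀ g h, c (g⁻¹ * h) = σ g⁻¹ ((c g)⁻¹ * c h) := fun g h => by
    have e := hcm g⁻¹ g
    rw [inv_mul_cancel, hc1] at e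
    rw [hcm, map_mul, map_inv₀, eq_inv_of_mul_eq_one_left e.symm]
  let H : Subgroup Y :=
    { carrier := {g | a g ∈ A}
      mul_mem' := fun {g h} hg hh => by
        have := A.mul_mem hg (hA (σ g) (a h) (Units.mk0 (σ g (c h)) (by simpa using hc0 h)) hh rfl)
        have e : a (g * h) = a g * Units.mk0 (σ g (c h)) (by simpa using hc0 h) := by
          ext; exact hcm g h
        change a (g * h) ∈ A
        rwa [e]
      one_mem' := by
        have : a 1 = 1 := by ext; exact hc1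
        change a 1 ∈ A
        rw [this]; exact A.one_mem
      inv_mem' := fun {g} hg => hA (σ g⁻¹) (a g)⁻¹ _ (A.inv_mem hg) (by
        have := hinv g 1
        rw [mul_one, hc1, mul_one] at this
        simpa [a] using this) }
  have hker : φ.ker ≤ H := fun g hg => ⟨g, fun t => by
    rw [hcσ, show σ g = 1 from hg]; rfl⟩
  have hrel : ∀ g h : Y, g⁻¹ * h ∈ H ↔ (a g)⁻¹ * a h ∈ A := fun g h =>
    ⟨fun hh => hA (σ g⁻¹).symm _ _ hh (by
      change _ = (σ g⁻¹).symm (c (g⁻¹ * h))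
      rw [hinv, RingEquiv.symm_apply_apply]; simp [a]), fun hh => hA (σ g⁻¹) _ _ hh (by
      change c (g⁻¹ * h) = _
      rw [hinv]; simp [a])⟩
  have hidx : H.index = A.index := by
    refine Nat.card_eq_of_bijective (Quotient.map' a fun g h hh => ?_ : Y ⧸ H → Fˣ ⧸ A) ⟨?_, ?_⟩
    · rw [QuotientGroup.leftRel_apply] at hh ⊢
      exact (hrel g h).1 hh
    · intro g h
      obtain ⟨g, rfl⟩ := QuotientGroup.mk_surjective g
      obtain ⟨h, rfl⟩ := QuotientGroup.mk_surjective h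
      intro e
      exact QuotientGroup.eq.2 ((hrel g h).2 (QuotientGroup.eq.1 e))
    · intro z
      obtain ⟨z, rfl⟩ := QuotientGroup.mk_surjective z
      obtain ⟨g, hg⟩ := htr z z.ne_zero
      refine ⟨g, congrArg QuotientGroup.mk ?_⟩
      ext
      simpa [hcσ, a] using hg
  have hd : A.index ∣ n := by
    rw [← hidx, ← card_aut hF]
    refine (Subgroup.index_dvd_of_le hker).trans ?_
    rw [Subgroup.index_ker]
    exact Subgroup.card_subgroup_dvd_card _
  obtain ⟨k, hk⟩ := hd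
  have h2 : Units.mk0 x hx ^ n ∈ A := by
    rw [hk, pow_mul]
    exact A.pow_mem (A.pow_index_mem _) k
  obtain ⟨g, hg⟩ := h2
  exact ⟨g, fun t => by simpa using hg t⟩

end CL.Shaw
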