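/-
Suzuki 2-groups with a transitive group `Y` of automorphisms acting semilinearly on `Ω`: the set-up,
layers of abelian invariant subgroups and covers.
-/
import Cfsg.Agent.Suz.ShawField
import Cfsg.Agent.Suz.HigmanCover

set_option autoImplicit false

namespace CL.Shaw

open CL.Higman (AddOn IsAb exists_pow_involution pow_two_pow_succ sq_pow_two_pow pow_two_pow_of_le pw
  pw_zero pw_one pw_sq commutator_mul_left' commutator_mul_right' commutator_mem_of_sq conj_mem_of_sq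
  comm_of_sq exists_max_exp add_self add_eq_zero_iff exists_repr coeff_eq_zero)
open scoped commutatorElement CL.Higman

universe u v

variable {P : Type u} [Group P] {Y : Type v} [Group Y] [MulDistribMulAction Y P]

variable (Y) in
/-- Invariant subgroups. -/
def Inv (X : Subgroup P) : Prop := ∀ g : Y, ∀ a ∈ X, g • a ∈ X

theorem inv_top : Inv Y (⊤ : Subgroup P) := fun _ _ _ => trivial

theorem smul_comm' (g : Y) (a b : P) : g • ⁅a, b⁆ = ⁅g • a, g • b⁆ := by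
  simp only [commutatorElement_def, smul_mul', smul_inv']

theorem inv_center : Inv Y (Subgroup.center P) := fun g a ha => by
  rw [Subgroup.mem_center_iff] at ha ⊢
  intro x
  rw [← smul_inv_smul g x, ← smul_mul', ha, smul_mul']

theorem descend {V W : Type*} [AddCommGroup V] [AddCommGroup W] {X : Subgroup P} {κ : P → V}
    (hκ : AddOn X κ) (hs : ∀ t, ∃ a ∈ X, κ a = t) {g : P → W} (hg : AddOn X g)
    (h0 : ∀ a ∈ X, κ a = 0 → g a = 0) : ∃ f : V →+ W, ∀ a ∈ X, f (κ a) = g a := by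
  choose s hs hs' using hs
  have w : ∀ x ∈ X, g (s (κ x)) = g x := fun x hx => by
    have hm := X.mul_mem (X.inv_mem hx) (hs (κ x))
    have := hg x hx _ hm
    rw [mul_inv_cancel_left] at this
    rw [this, h0 _ hm (by rw [hκ _ (X.inv_mem hx) _ (hs _), hκ.inv hx, hs', neg_add_cancel]), add_zero]
  refine ⟨AddMonoidHom.mk' (fun t => g (s t)) fun a b => ?_, w⟩
  rw [← hg _ (hs a) _ (hs b), ← w _ (X.mul_mem (hs a) (hs b)), hκ _ (hs a) _ (hs b), hs', hs']

variable (Y P) in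
/-- A finite 2-group with a group of automorphisms transitive on the involutions. -/
structure Base : Prop where
  fin : Finite P
  pgroup : IsPGroup 2 P
  trans : ∀ x y : P, x ≠ 1 → x * x = 1 → y ≠ 1 → y * y = 1 → ∃ g : Y, g • x = y

namespace Base

theorem mem_center (S : Base P Y) {x : P} (hx : x * x = 1) : x ∈ Subgroup.center P := by
  have := S.fin
  by_cases h1 : x = 1
  · rw [h1]; exact Subgroup.one_mem _
  have : Nontrivial P := ⟨x, 1, h1⟩
  have := S.pgroup.center_nontrivial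
  obtain ⟨z, hz⟩ := exists_ne (1 : Subgroup.center P)
  obtain ⟨j, h2, h3⟩ := exists_pow_involution S.pgroup (x := (z : P)) (by simpa using hz)
  obtain ⟨k, hk⟩ := S.trans _ x h2 (by rw [← pow_two_pow_succ, h3]) h1 hx
  rw [← hk]
  exact inv_center k _ (Subgroup.pow_mem _ z.2 _)

/-- The subgroup of the elements of order at most two. -/
def Om (S : Base P Y) : Subgroup P where
  carrier := {x | x * x = 1}
  mul_mem' := fun {a b} (ha : a * a = 1) (hb : b * b = 1) => by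
    have := Subgroup.mem_center_iff.1 (S.mem_center ha) b
    change a * b * (a * b) = 1
    rw [mul_assoc, ← mul_assoc b, this, mul_assoc, hb, mul_one, ha]
  one_mem' := one_mul 1
  inv_mem' := fun {a} (ha : a * a = 1) => by
    change a⁻¹ * a⁻¹ = 1
    rw [← mul_inv_rev, ha, inv_one]

theorem mem_Om (S : Base P Y) {x : P} : x ∈ S.Om ↔ x * x = 1 := Iff.rfl

theorem comm_Om (S : Base P Y) {w : P} (hw : w ∈ S.Om) (g : P) : g * w = w * g :=
  Subgroup.mem_center_iff.1 (S.mem_center hw) g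

theorem conj_Om (S : Base P Y) {w : P} (hw : w ∈ S.Om) (g : P) : g * w * g⁻¹ = w := by
  rw [S.comm_Om hw, mul_inv_cancel_right]

theorem normal_Om (S : Base P Y) : S.Om.Normal := ⟨fun w hw g => by rwa [S.conj_Om hw]⟩

theorem inv_Om (S : Base P Y) : Inv Y S.Om := fun g a (ha : a * a = 1) => by
  change g • a * g • a = 1
  rw [← smul_mul', ha, smul_one]

theorem Om_le (S : Base P Y) {X : Subgroup P} (hX : Inv Y X) {x : P} (hx : x ∈ X) (h1 : x ≠ 1) :
    S.Om ≤ X := by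
  intro w hw
  by_cases hw1 : w = 1
  · rw [hw1]; exact X.one_mem
  obtain ⟨j, h2, h3⟩ := exists_pow_involution S.pgroup h1
  obtain ⟨k, hk⟩ := S.trans _ w h2 (by rw [← pow_two_pow_succ, h3]) hw1 hw
  rw [← hk]
  exact hX k _ (X.pow_mem hx _)

theorem pow_mem (S : Base P Y) {a : P} {j : ℕ} (ha : a ^ 2 ^ (j + 1) = 1) : a ^ 2 ^ j ∈ S.Om := by
  rw [S.mem_Om, ← pow_two_pow_succ, ha]

theorem mem_of_pow_ne_one (S : Base P Y) {A B : Subgroup P} (hA : IsAb A) (hBA : B ≤ A) (hB : Inv Y B)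
    {j : ℕ} {b : P} (hb : b ∈ B) (hbj : b ^ 2 ^ j ≠ 1) {a : P} (ha : a ∈ A) (haj : a ^ 2 ^ (j + 1) = 1) :
    a ∈ B := by
  induction j generalizing a with
  | zero => exact S.Om_le hB hb (by simpa using hbj) (by simpa [sq, S.mem_Om] using haj)
  | succ j ih =>
    have hbj' : b ^ 2 ^ j ≠ 1 := fun h => hbj (pow_two_pow_of_le h (Nat.le_succ j))
    by_cases h1 : a ^ 2 ^ (j + 1) = 1
    · exact ih hbj' ha h1
    obtain ⟨i, h2, h3⟩ := exists_pow_involution S.pgroup hbj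
    obtain ⟨k, hk⟩ := S.trans _ (a ^ 2 ^ (j + 1)) h2 (by rw [← pow_two_pow_succ, h3]) h1
      (by rw [← pow_two_pow_succ, haj])
    have hc : k • (b ^ 2 ^ i) ∈ B := hB k _ (B.pow_mem hb _)
    have h4 := ih hbj' (A.mul_mem ha (A.inv_mem (hBA hc))) (by
      rw [hA.mul_pow ha (A.inv_mem (hBA hc)), inv_pow, ← smul_pow', ← pow_mul, mul_comm (2 ^ i), pow_mul, hk,
        mul_inv_cancel])
    simpa using B.mul_mem h4 hc

theorem exists_root (S : Base P Y) {A : Subgroup P} (hA : IsAb A) (hI : Inv Y A) {i j : ℕ} {b : P}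
    (hb : b ∈ A) (hbj : b ^ 2 ^ (i + j) ≠ 1) {a : P} (ha : a ∈ A) (haj : a ^ 2 ^ (j + 1) = 1) :
    ∃ c ∈ A, c ^ 2 ^ i = a := by
  refine S.mem_of_pow_ne_one hA (B := hA.powers (2 ^ i)) ?_ ?_ (b := b ^ 2 ^ i) ⟨b, hb, rfl⟩ ?_ ha haj
  · rintro _ ⟨c, hc, rfl⟩
    exact A.pow_mem hc _
  · rintro g _ ⟨c, hc, rfl⟩
    exact ⟨g • c, hI g c hc, (smul_pow' _ _ _).symm⟩
  · rwa [← pow_mul, ← pow_add]

theorem exists_sqrt (S : Base P Y) {A : Subgroup P} (hA : IsAb A) (hI : Inv Y A) {j : ℕ} {b : P}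
    (hb : b ∈ A) (hbj : b ^ 2 ^ j ≠ 1) {a : P} (ha : a ∈ A) (haj : a ^ 2 ^ j = 1) :
    ∃ c ∈ A, c * c = a := by
  cases j with
  | zero => exact ⟨1, A.one_mem, by simpa using haj.symm⟩
  | succ j =>
    obtain ⟨c, hc, h⟩ := S.exists_root hA hI (i := 1) hb (by rwa [add_comm]) ha haj
    exact ⟨c, hc, by simpa [sq] using h⟩

/-- The order of an invariant subgroup is `1` modulo the number of involutions. -/
theorem card_dvd (S : Base P Y) {X : Subgroup P} (hX : Inv Y X) :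
    Nat.card S.Om - 1 ∣ Nat.card X - 1 := by
  classical
  have := S.fin
  have := Fintype.ofFinite P
  let s : Finset P := (Finset.univ.filter (· ∈ X)).erase 1
  let I : Finset P := (Finset.univ.filter (· ∈ S.Om)).erase 1
  have hs : s.card = Nat.card X - 1 := by
    rw [Finset.card_erase_of_mem (by simp), Nat.card_eq_fintype_card, Fintype.card_subtype]
  have hI : I.card = Nat.card S.Om - 1 := by
    rw [Finset.card_erase_of_mem (by simp), Nat.card_eq_fintype_card, Fintype.card_subtype]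
  let f : P → P := fun x => x ^ (orderOf x / 2)
  have hf : ∀ x ∈ s, f x ∈ I := by
    intro x hx
    have hx1 : x ≠ 1 := (Finset.mem_erase.1 hx).1
    obtain ⟨k, hk⟩ := IsPGroup.iff_orderOf.1 S.pgroup x
    have h2 : 2 ∣ orderOf x := by
      rw [hk]; refine dvd_pow_self 2 fun h => hx1 ?_
      rwa [h, pow_zero, orderOf_eq_one_iff] at hk
    refine Finset.mem_erase.2 ⟨?_, Finset.mem_filter.2 ⟨Finset.mem_univ _, ?_⟩⟩
    · exact pow_ne_one_of_lt_orderOf (by have := orderOf_pos x; omega) (by have := orderOf_pos x; omega)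
    · rw [S.mem_Om, ← sq, ← pow_mul, Nat.div_mul_cancel h2, pow_orderOf_eq_one]
  have hfa : ∀ (g : Y) (x : P), f (g • x) = g • f x := fun g x => by
    have : orderOf (g • x) = orderOf x := (MulDistribMulAction.toMulEquiv P g).orderOf_eq x
    simp only [f, this, smul_pow']
  rw [← hs, ← hI]
  rcases I.eq_empty_or_nonempty with h0 | ⟨z, hz⟩
  · have : s = ∅ := Finset.eq_empty_of_forall_notMem fun x hx => by simpa [h0] using hf x hx
    rw [this]; simp
  have hfib : ∀ y ∈ I, (s.filter (f · = y)).card = (s.filter (f · = z)).card := by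
    intro y hy
    obtain ⟨g, hg⟩ := S.trans y z (Finset.mem_erase.1 hy).1
      (Finset.mem_filter.1 (Finset.mem_erase.1 hy).2).2 (Finset.mem_erase.1 hz).1
      (Finset.mem_filter.1 (Finset.mem_erase.1 hz).2).2
    refine Finset.card_bijective (g • ·) (MulAction.bijective g) fun x => ?_
    have e : g • x ∈ X ↔ x ∈ X := ⟨fun h => by simpa using hX g⁻¹ _ h, hX g x⟩
    have e' : g • x = 1 ↔ x = 1 := by
      conv_lhs => rw [← smul_one g, smul_left_cancel_iff]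
    simp only [s, Finset.mem_filter, Finset.mem_erase, Finset.mem_univ, true_and, hfa, ← hg, ne_eq,
      smul_left_cancel_iff, e, e']
  have hsum := Finset.card_eq_sum_card_fiberwise hf
  rw [Finset.sum_congr rfl hfib, Finset.sum_const, smul_eq_mul] at hsum
  exact ⟨_, hsum⟩

theorem card_le (S : Base P Y) {A C : Subgroup P} (hA : Inv Y A) (hC : Inv Y C) (hAC : A ≤ C)
    (hne : ¬ C ≤ A) : Nat.card S.Om * Nat.card A ≤ Nat.card C := by
  have := S.fin
  obtain ⟨k, hk⟩ := Subgroup.card_dvd_of_le hAC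
  have h1 := S.card_dvd hA
  have h2 := S.card_dvd hC
  have hlt := CL.Grp.card_lt_card_of_lt (lt_of_le_of_ne hAC fun e => hne e.ge)
  have ha : 0 < Nat.card A := Nat.card_pos
  have hk1 : 1 < k := by
    by_contra h
    have : Nat.card A * k ≤ Nat.card A * 1 := Nat.mul_le_mul_left _ (by omega)
    omega
  obtain ⟨a, ha'⟩ : ∃ a, Nat.card A = a + 1 := ⟨Nat.card A - 1, by omega⟩
  obtain ⟨l, rfl⟩ : ∃ l, k = l + 1 := ⟨k - 1, by omega⟩
  have e : Nat.card C - 1 = a * (l + 1) + l := by rw [hk, ha']; ring_nf; omega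
  rw [ha', Nat.add_sub_cancel] at h1
  rw [e] at h2
  have h3 := Nat.le_of_dvd (by omega) ((Nat.dvd_add_right (h1.mul_right _)).1 h2)
  rw [hk, mul_comm]
  exact Nat.mul_le_mul_left _ (by omega)

end Base

variable (Y) in
/-- `C / A` is an elementary abelian invariant section. -/
structure Sec (A C : Subgroup P) : Prop where
  le : A ≤ C
  invA : Inv Y A
  invC : Inv Y C
  sq : ∀ x ∈ C, x * x ∈ A

variable (Y) in
/-- `C / A` is an irreducible section. -/
structure Cover (A C : Subgroup P) : Prop extends Sec Y A C where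
  ne : ¬ C ≤ A
  min : ∀ B : Subgroup P, A ≤ B → B ≤ C → Inv Y B → B ≤ A ∨ C ≤ B

namespace Sec

variable {A C : Subgroup P}

theorem commutator_mem (h : Sec Y A C) {x y : P} (hx : x ∈ C) (hy : y ∈ C) : ⁅x, y⁆ ∈ A :=
  commutator_mem_of_sq h.sq hx hy

theorem conj_mem (h : Sec Y A C) {x a : P} (hx : x ∈ C) (ha : a ∈ A) : x * a * x⁻¹ ∈ A :=
  conj_mem_of_sq h.le h.sq hx ha

theorem D_mul (h : Sec Y A C) (hA : IsAb A) {u a b : P} (hu : u ∈ C) (ha : a ∈ A) (hb : b ∈ A) :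
    ⁅u, a * b⁆ = ⁅u, a⁆ * ⁅u, b⁆ := by
  rw [commutator_mul_right', hA.conj ha (h.commutator_mem hu (h.le hb))]

theorem D_pow (h : Sec Y A C) (hA : IsAb A) {u a : P} (hu : u ∈ C) (ha : a ∈ A) (n : ℕ) :
    ⁅u, a ^ n⁆ = ⁅u, a⁆ ^ n := by
  induction n with
  | zero => simp
  | succ n ih => rw [pow_succ, h.D_mul hA hu (A.pow_mem ha n) ha, ih, pow_succ]

theorem D_step (S : Base P Y) (h : Sec Y A C) (hA : IsAb A) {u a : P} (hu : u ∈ C) (ha : a ∈ A)
    {j : ℕ} (haj : a ^ 2 ^ (j + 1) = 1) : ⁅u, a⁆ ^ 2 ^ j = 1 := by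
  rw [← h.D_pow hA hu ha, commutatorElement_eq_one_iff_mul_comm]
  exact S.comm_Om (S.pow_mem haj) u

theorem exists_cover [Finite P] (h : Sec Y A C) (hne : ¬ C ≤ A) : ∃ B, B ≤ C ∧ Cover Y A B := by
  obtain ⟨B, hB, hmin⟩ := Finite.exists_le_minimal
    (p := fun B : Subgroup P => A ≤ B ∧ Inv Y B ∧ ¬ B ≤ A) (a := C) ⟨h.le, h.invC, hne⟩
  refine ⟨B, hB, ⟨hmin.1.1, h.invA, hmin.1.2.1, fun x hx => h.sq x (hB hx)⟩, hmin.1.2.2,
    fun D h1 h2 h3 => ?_⟩
  by_cases h4 : D ≤ A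
  · exact Or.inl h4
  · exact Or.inr (hmin.2 ⟨h1, h3, h4⟩ h2)

end Sec

variable {F : Type*} [Field F]

variable (Y) in
/-- The set-up with a coordinate `ω` on `Ω`, on which `Y` acts semilinearly. -/
structure Setup (n : ℕ) (ω : P → F) (ρ : Y → F → F) : Prop extends Base P Y where
  card : Nat.card F = 2 ^ n
  two : 2 ≤ n
  add : AddOn toBase.Om ω
  inj : ∀ a ∈ toBase.Om, ω a = 0 → a = 1
  surj : ∀ t, ∃ a ∈ toBase.Om, ω a = t
  eqv : ∀ g : Y, ∀ a ∈ toBase.Om, ω (g • a) = ρ g (ω a)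
  semi : ∀ g : Y, ∃ (c : F) (σ : F ≃+* F), c ≠ 0 ∧ ∀ x, ρ g x = c * σ x
  scal : ∀ x : F, x ≠ 0 → ∃ g : Y, ∀ t, ρ g t = x ^ n * t

namespace Setup

variable {n : ℕ} {ω : P → F} {ρ : Y → F → F} {A C : Subgroup P}

theorem card_Om (S : Setup Y n ω ρ) : Nat.card S.Om = Nat.card F := by
  rw [S.add.card_eq S.surj, (Subgroup.eq_bot_iff_forall _).2 fun a (ha : a ∈ S.add.ker) => S.inj a ha.1 ha.2]
  simp

theorem two_lt (S : Setup Y n ω ρ) : 2 < Nat.card F := by
  rw [S.card]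
  exact lt_of_lt_of_le (by norm_num) (Nat.pow_le_pow_right (by norm_num) S.two)

theorem rho_zero (S : Setup Y n ω ρ) (g : Y) : ρ g 0 = 0 := by
  obtain ⟨c, σ, -, h⟩ := S.semi g
  simp [h]

theorem pw_eq_zero_iff (S : Setup Y n ω ρ) {a : P} {j : ℕ} (ha : a ^ 2 ^ (j + 1) = 1) :
    pw ω j a = 0 ↔ a ^ 2 ^ j = 1 :=
  ⟨S.inj _ (S.pow_mem ha), fun h => by rw [pw, h, S.add.one]⟩

theorem pw_eq_zero (S : Setup Y n ω ρ) {a : P} {j : ℕ} (ha : a ^ 2 ^ j = 1) : pw ω j a = 0 := by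
  rw [pw, ha, S.add.one]

theorem pw_mul (S : Setup Y n ω ρ) {a b : P} {j : ℕ} (hab : Commute a b) (ha : a ^ 2 ^ (j + 1) = 1)
    (hb : b ^ 2 ^ (j + 1) = 1) : pw ω j (a * b) = pw ω j a + pw ω j b := by
  rw [pw, hab.mul_pow, S.add _ (S.pow_mem ha) _ (S.pow_mem hb)]; rfl

theorem pw_inv (S : Setup Y n ω ρ) {a : P} {j : ℕ} (ha : a ^ 2 ^ (j + 1) = 1) :
    pw ω j a⁻¹ = pw ω j a := by
  rw [pw, pw, inv_pow, inv_eq_of_mul_eq_one_right (S.mem_Om.1 (S.pow_mem ha))]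

theorem pw_conj (S : Setup Y n ω ρ) {a : P} {j : ℕ} (ha : a ^ 2 ^ (j + 1) = 1) (g : P) :
    pw ω j (g * a * g⁻¹) = pw ω j a := by
  rw [pw, pw, conj_pow, S.conj_Om (S.pow_mem ha)]

theorem pw_eqv (S : Setup Y n ω ρ) {a : P} {j : ℕ} (ha : a ^ 2 ^ (j + 1) = 1) (g : Y) :
    pw ω j (g • a) = ρ g (pw ω j a) := by
  rw [pw, ← smul_pow', S.eqv _ _ (S.pow_mem ha)]; rfl

theorem pw_swap (S : Setup Y n ω ρ) {x y : P} {j : ℕ} (hj : ⁅x, y⁆ ^ 2 ^ (j + 1) = 1) :
    pw ω j ⁅y, x⁆ = pw ω j ⁅x, y⁆ := by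
  rw [← commutatorElement_inv x y, S.pw_inv hj]

theorem pw_addOn (S : Setup Y n ω ρ) (hA : IsAb A) {m : ℕ} (he : ∀ a ∈ A, a ^ 2 ^ (m + 1) = 1) :
    AddOn A (pw ω m) := fun a ha b hb => S.pw_mul (hA.commute ha hb) (he a ha) (he b hb)

theorem pw_surj (S : Setup Y n ω ρ) (hA : IsAb A) (hI : Inv Y A) {m : ℕ} {b : P} (hb : b ∈ A)
    (hbm : b ^ 2 ^ m ≠ 1) (t : F) : ∃ a ∈ A, pw ω m a = t := by
  obtain ⟨w, hw, rfl⟩ := S.surj t
  obtain ⟨c, hc, rfl⟩ := S.exists_root hA hI (i := m) (j := 0) hb hbm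
    (S.Om_le hI hb (fun h => hbm (by rw [h, one_pow])) hw) (by simpa [sq, S.mem_Om] using hw)
  exact ⟨c, hc, rfl⟩

theorem comm_addOn_left (S : Setup Y n ω ρ) (h : Sec Y A C) (hA : IsAb A) {X : Subgroup P} (hX : X ≤ C)
    {y : P} (hy : y ∈ C) {j : ℕ} (hj : ∀ x ∈ X, ⁅x, y⁆ ^ 2 ^ (j + 1) = 1) :
    AddOn X fun x => pw ω j ⁅x, y⁆ := by
  intro a ha b hb
  have h1 : (a * ⁅b, y⁆ * a⁻¹) ^ 2 ^ (j + 1) = 1 := by rw [conj_pow, hj b hb]; group
  simp only
  rw [commutator_mul_left', S.pw_mul (hA.commute (h.conj_mem (hX ha) (h.commutator_mem (hX hb) hy))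
    (h.commutator_mem (hX ha) hy)) h1 (hj a ha), S.pw_conj (hj b hb), add_comm]

theorem comm_addOn_right (S : Setup Y n ω ρ) (h : Sec Y A C) (hA : IsAb A) {X : Subgroup P} (hX : X ≤ C)
    {y : P} (hy : y ∈ C) {j : ℕ} (hj : ∀ x ∈ X, ⁅y, x⁆ ^ 2 ^ (j + 1) = 1) :
    AddOn X fun x => pw ω j ⁅y, x⁆ := by
  have hj' : ∀ x ∈ X, ⁅x, y⁆ ^ 2 ^ (j + 1) = 1 := fun x hx => by
    rw [← commutatorElement_inv y x, inv_pow, hj x hx, inv_one]
  intro a ha b hb
  have := S.comm_addOn_left h hA hX hy hj' a ha b hb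
  simp only at this ⊢
  rw [S.pw_swap (hj' _ (X.mul_mem ha hb)), S.pw_swap (hj' a ha), S.pw_swap (hj' b hb), this]

/-- The action of `C / A` on `A / A ^ 4` in coordinates. -/
theorem exists_T (S : Setup Y n ω ρ) (h : Sec Y A C) (hA : IsAb A) {m : ℕ}
    (he : ∀ a ∈ A, a ^ 2 ^ (m + 2) = 1) {b : P} (hb : b ∈ A) (hbm : b ^ 2 ^ (m + 1) ≠ 1) :
    ∃ T : P → F →+ F, AddOn C T ∧ (∀ u ∈ A, T u = 0) ∧
      (∀ u ∈ C, ∀ a ∈ A, T u (pw ω (m + 1) a) = pw ω m ⁅u, a⁆) ∧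
      ∀ g : Y, ∀ u ∈ C, ∀ s, T (g • u) (ρ g s) = ρ g (T u s) := by
  have hD : ∀ u ∈ C, ∀ a ∈ A, ⁅u, a⁆ ^ 2 ^ (m + 1) = 1 := fun u hu a ha =>
    h.D_step S.toBase hA hu ha (he a ha)
  have hs := S.pw_surj hA h.invA hb hbm
  have key : ∀ u, ∃ f : F →+ F, u ∈ C → ∀ a ∈ A, f (pw ω (m + 1) a) = pw ω m ⁅u, a⁆ := fun u => by
    by_cases hu : u ∈ C
    · obtain ⟨f, hf⟩ := descend (S.pw_addOn hA he) hs (S.comm_addOn_right h hA h.le hu (hD u hu))
        fun a ha h0 => S.pw_eq_zero (h.D_step S.toBase hA hu ha ((S.pw_eq_zero_iff (he a ha)).1 h0))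
      exact ⟨f, fun _ => hf⟩
    · exact ⟨0, fun h => absurd h hu⟩
  choose T hT using key
  refine ⟨T, fun u hu v hv => ?_, fun u hu => ?_, hT, fun g u hu s => ?_⟩
  · ext s
    obtain ⟨a, ha, rfl⟩ := hs s
    rw [AddMonoidHom.add_apply, hT _ (C.mul_mem hu hv) a ha, hT u hu a ha, hT v hv a ha]
    exact S.comm_addOn_left h hA le_rfl (h.le ha) (fun x hx => hD x hx a ha) u hu v hv
  · ext s
    obtain ⟨a, ha, rfl⟩ := hs s
    rw [hT u (h.le hu) a ha, commutatorElement_eq_one_iff_mul_comm.2 (hA u hu a ha)]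
    exact S.pw_eq_zero (one_pow _)
  · obtain ⟨a, ha, rfl⟩ := hs s
    rw [← S.pw_eqv (he a ha), hT _ (h.invC g u hu) _ (h.invA g a ha), hT u hu a ha, ← smul_comm',
      S.pw_eqv (hD u hu a ha)]

variable [Finite F]

/-- An additive map on a cover with small kernel is onto. -/
theorem cover_surj (S : Setup Y n ω ρ) (h : Cover Y A C) {κ : P → F} (hκ : AddOn C κ)
    (h0 : ∀ u ∈ C, κ u = 0 → u ∈ A) (t : F) : ∃ u ∈ C, κ u = t := by
  have := S.fin
  have h1 : hκ.toHom.ker = hκ.ker.subgroupOf C := by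
    ext a
    simp [AddOn.toHom, MonoidHom.mem_ker, Subgroup.mem_subgroupOf, AddOn.mem_ker]
  have h2 := hκ.toHom.ker.index_mul_card
  rw [Subgroup.index_ker, h1, Nat.card_congr (Subgroup.subgroupOfEquivOfLe hκ.ker_le).toEquiv] at h2
  have h3 : Nat.card hκ.ker ≤ Nat.card A := Subgroup.card_le_of_le fun u hu => h0 u hu.1 hu.2
  have h4 := S.card_le h.invA h.invC h.le h.ne
  rw [S.card_Om, ← h2] at h4
  have h5 : Nat.card F ≤ Nat.card hκ.toHom.range :=
    Nat.le_of_mul_le_mul_right (h4.trans (Nat.mul_le_mul_left _ h3)) Nat.card_pos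
  have h6 : hκ.toHom.range = ⊤ := by
    refine Subgroup.eq_of_le_of_card_ge le_top ?_
    rw [Subgroup.card_top]
    exact h5
  obtain ⟨u, hu⟩ : Multiplicative.ofAdd t ∈ hκ.toHom.range := h6 ▸ Subgroup.mem_top _
  exact ⟨u, u.2, Multiplicative.ofAdd.injective hu⟩

variable [CharP F 2]

/-- An equivariant action of an irreducible section on `Ω` is trivial or fixed-point-free. -/
theorem nondeg (S : Setup Y n ω ρ) (h : Cover Y A C) {T : P → F →+ F} (hT : AddOn C T)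
    (hA : ∀ u ∈ A, T u = 0) (he : ∀ g : Y, ∀ u ∈ C, ∀ s, T (g • u) (ρ g s) = ρ g (T u s)) :
    (∀ u ∈ C, T u = 0) ∨ ∀ u ∈ C, ∀ s, T u s = 0 → u ∈ A ∨ s = 0 := by
  choose c hc using fun u => exists_repr (T u)
  have hadd : ∀ σ, AddOn C fun u => c u σ := fun σ u hu v hv => by
    have := coeff_eq_zero (fun σ => c (u * v) σ - (c u σ + c v σ)) (fun x => by
      simp only [sub_mul, add_mul, Finset.sum_sub_distrib, Finset.sum_add_distrib, ← hc, hT u hu v hv]
      simp) σ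
    exact sub_eq_zero.1 this
  have hz : ∀ u ∈ A, ∀ σ, c u σ = 0 := fun u hu => coeff_eq_zero _ fun x => by
    rw [← hc, hA u hu]; rfl
  have heq : ∀ (g : Y) (d : F) (φ : F ≃+* F), (∀ x, ρ g x = d * φ x) → ∀ u ∈ C, ∀ σ,
      c (g • u) σ * σ d = d * φ (c u σ) := fun g d φ hg u hu σ => by
    have := coeff_eq_zero (fun σ => c (g • u) σ * σ d - d * φ (c u σ)) (fun x => by
      have h1 := he g u hu (φ.symm x)
      rw [hg, hg, hc, hc, map_sum, Finset.mul_sum, ← sub_eq_zero, ← Finset.sum_sub_distrib] at h1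
      rw [← h1]
      refine Finset.sum_congr rfl fun σ _ => ?_
      rw [map_mul, map_mul, aut_comm φ σ, RingEquiv.apply_symm_apply]
      ring) σ
    exact sub_eq_zero.1 this
  have hker : ∀ σ, (hadd σ).ker ≤ A ∨ C ≤ (hadd σ).ker := fun σ =>
    h.min _ (fun a ha => ⟨h.le ha, hz a ha σ⟩) (hadd σ).ker_le fun g u hu => ⟨h.invC g u hu.1, by
      obtain ⟨d, φ, hd, hg⟩ := S.semi g
      have := heq g d φ hg u hu.1 σ
      rw [show c u σ = 0 from hu.2, map_zero, mul_zero] at this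
      exact (mul_eq_zero.1 this).resolve_right (by simpa using hd)⟩
  by_cases h0 : ∀ σ, C ≤ (hadd σ).ker
  · left
    intro u hu
    ext s
    rw [hc]
    exact Finset.sum_eq_zero fun σ _ => by rw [show c u σ = 0 from (h0 σ hu).2, zero_mul]
  right
  push Not at h0
  obtain ⟨σ, hσ⟩ := h0
  have hσ' := (hker σ).resolve_right hσ
  have hs := S.cover_surj h (hadd σ) fun u hu h0 => hσ' ⟨hu, h0⟩
  have huniq : ∀ τ, τ ≠ σ → ∀ u ∈ C, c u τ = 0 := fun τ hτ u hu => by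
    by_contra hne
    obtain ⟨f, hf⟩ := descend (hadd σ) hs (hadd τ) fun a ha h0 => hz a (hσ' ⟨ha, h0⟩) τ
    refine hτ (aut_eq S.card S.two f (σ := σ) (τ := τ) (t := c u σ) (fun x hx t => ?_)
      (by rwa [hf u hu])).symm
    obtain ⟨g, hg⟩ := S.scal x hx
    obtain ⟨v, hv, hvt⟩ := hs (σ (x ^ n) * t)
    have e1 := heq g (x ^ n) 1 hg v hv σ
    have e2 := heq g (x ^ n) 1 hg v hv τ
    have e3 : c (g • v) σ = x ^ n * t := by
      refine mul_right_cancel₀ (b := σ (x ^ n)) (by simpa using pow_ne_zero n hx) ?_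
      rw [e1, show c v σ = _ from hvt]
      change x ^ n * (σ (x ^ n) * t) = _
      ring
    have e4 := hf _ (h.invC g v hv)
    have e5 := hf v hv
    rw [← e3, e4, e2, ← hvt, e5]; rfl
  intro u hu s hs0
  rw [hc, Finset.sum_eq_single σ (fun τ _ hτ => by rw [huniq τ hτ u hu, zero_mul]) (by simp)] at hs0
  rcases mul_eq_zero.1 hs0 with h1 | h1
  · exact Or.inl (hσ' ⟨hu, h1⟩)
  · exact Or.inr (by simpa using h1)

end Setup

end CL.Shaw
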