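/-
Suzuki 2-groups with a transitive semilinear group of automorphisms: non-abelian covers of abelian
invariant subgroups.
-/
import Cfsg.Agent.Suz.Shaw1

set_option autoImplicit false

namespace CL.Shaw

open CL.Higman (AddOn IsAb exists_pow_involution pow_two_pow_succ sq_pow_two_pow pow_two_pow_of_le pw
  pw_zero pw_one pw_sq commutator_mul_left' commutator_mul_right' commutator_mem_of_sq conj_mem_of_sq
  comm_of_sq exists_max_exp add_self add_eq_zero_iff exists_ne_zero_one)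
open scoped commutatorElement

universe u v

variable {P : Type u} [Group P] {Y : Type v} [Group Y] [MulDistribMulAction Y P]

theorem descend₂ {V W : Type*} [AddCommGroup V] [AddCommGroup W] {X : Subgroup P} {κ : P → V}
    (hκ : AddOn X κ) (hs : ∀ t, ∃ a ∈ X, κ a = t) (g : P → P → W)
    (h1 : ∀ y ∈ X, AddOn X fun x => g x y) (h2 : ∀ x ∈ X, AddOn X (g x))
    (k1 : ∀ x ∈ X, ∀ y ∈ X, κ x = 0 → g x y = 0) (k2 : ∀ x ∈ X, ∀ y ∈ X, κ y = 0 → g x y = 0) :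
    ∃ B : V →+ V →+ W, ∀ x ∈ X, ∀ y ∈ X, B (κ x) (κ y) = g x y := by
  have key : ∀ x, ∃ f : V →+ W, x ∈ X → ∀ y ∈ X, f (κ y) = g x y := fun x => by
    by_cases hx : x ∈ X
    · obtain ⟨f, hf⟩ := descend hκ hs (h2 x hx) (k2 x hx)
      exact ⟨f, fun _ => hf⟩
    · exact ⟨0, fun h => absurd h hx⟩
  choose f hf using key
  obtain ⟨B, hB⟩ := descend hκ hs (g := f) (fun x hx x' hx' => by
    ext s
    obtain ⟨y, hy, rfl⟩ := hs s
    rw [AddMonoidHom.add_apply, hf _ (X.mul_mem hx hx') y hy, hf x hx y hy, hf x' hx' y hy]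
    exact h1 y hy x hx x' hx') (fun x hx h0 => by
    ext s
    obtain ⟨y, hy, rfl⟩ := hs s
    rw [hf x hx y hy, k1 x hx y hy h0]; rfl)
  exact ⟨B, fun x hx y hy => by rw [hB x hx, hf x hx y hy]⟩

/-- Higman's Lemma 2. -/
theorem Base.mem_of_sq (S : Base P Y) {A C : Subgroup P} (h : Sec Y A C) (hA : IsAb A) {m : ℕ}
    {b : P} (hb : b ∈ A) (hbm : b ^ 2 ^ (m + 1) ≠ 1) {u : P} (hu : u ∈ C)
    (hD : ∀ a ∈ A, ⁅u, a⁆ ^ 2 ^ m = 1) (hsq : (u * u) ^ 2 ^ (m + 1) = 1) : u ∈ A := by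
  have hD2 : ∀ j, ∀ a ∈ A, a ^ 2 ^ (j + 2) = 1 → ⁅u, a⁆ ^ 2 ^ j = 1 := by
    intro j a ha haj
    obtain ⟨c, hcA, hcc⟩ := S.exists_root hA h.invA (i := m) (j := 1) hb hbm (A.pow_mem ha (2 ^ j))
      (by rw [← pow_mul, ← pow_add, haj])
    rw [← h.D_pow hA hu ha, ← hcc, h.D_pow hA hu hcA, hD c hcA]
  have key : ∀ j ≤ m + 1, ∀ w ∈ A, w ^ 2 ^ j = 1 → ∃ a ∈ A, a * a * ⁅u, a⁆ = w := by
    intro j
    induction j with
    | zero => exact fun _ w _ hw => ⟨1, A.one_mem, by simpa using hw.symm⟩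
    | succ j ih =>
      intro hj w hw hwj
      obtain ⟨a, ha, haa⟩ := S.exists_sqrt hA h.invA (j := j + 1) hb
        (fun h1 => hbm (pow_two_pow_of_le h1 hj)) hw hwj
      have h1 := h.commutator_mem hu (h.le ha)
      obtain ⟨a', ha', h2⟩ := ih (by omega) ⁅u, a⁆⁻¹ (A.inv_mem h1) (by
        rw [inv_pow, hD2 j a ha (by rw [← sq_pow_two_pow, haa, hwj]), inv_one])
      refine ⟨a * a', A.mul_mem ha ha', ?_⟩
      have h3 := h.commutator_mem hu (h.le ha')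
      rw [h.D_mul hA hu ha ha', ← haa, ← sq, hA.mul_pow ha ha', sq, sq, hA _ h1 _ h3, ← mul_assoc,
        mul_assoc (a * a), h2, inv_mul_cancel_right]
  obtain ⟨a, ha, haa⟩ := key (m + 1) le_rfl (u * u)⁻¹ (A.inv_mem (h.sq u hu))
    (by rw [inv_pow, hsq, inv_one])
  have h4 : a * u ∈ S.Om := by
    have e : a * u * (a * u) = a * (⁅u, a⁆ * a) * (u * u) := by rw [commutatorElement_def]; group
    rw [S.mem_Om, e, hA _ (h.commutator_mem hu (h.le ha)) a ha, ← mul_assoc a, haa, inv_mul_cancel]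
  have h5 := S.Om_le h.invA hb (fun h1 => hbm (by rw [h1, one_pow])) h4
  simpa using A.mul_mem (A.inv_mem ha) h5

namespace Setup

variable {F : Type*} [Field F] [Finite F] [CharP F 2] {n : ℕ} {ω : P → F} {ρ : Y → F → F}
  {A C : Subgroup P}

/-- Higman's Lemma 3. -/
theorem isAb_of_sq (S : Setup Y n ω ρ) (h : Cover Y A C) (hA : IsAb A) {m : ℕ}
    (he : ∀ a ∈ A, a ^ 2 ^ (m + 2) = 1) (hadd : AddOn C fun x => pw ω (m + 1) (x * x))
    (hker : ∀ x ∈ C, (x * x) ^ 2 ^ (m + 1) = 1 → x ∈ A) : IsAb C := by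
  have := S.fin
  have hker' : ∀ x ∈ C, pw ω (m + 1) (x * x) = 0 → x ∈ A := fun x hx h0 =>
    hker x hx ((S.pw_eq_zero_iff (he _ (h.sq x hx))).1 h0)
  have hs := S.cover_surj h hadd hker'
  obtain ⟨x₀, hx₀, hx₀A⟩ := SetLike.not_le_iff_exists.1 h.ne
  by_contra hC
  simp only [IsAb, not_forall] at hC
  obtain ⟨x, hx, y, hy, hxy⟩ := hC
  obtain ⟨j, hj, _, ⟨x₁, hx₁, y₁, hy₁, rfl⟩, hj'⟩ := exists_max_exp S.pgroup
    {c | ∃ x ∈ C, ∃ y ∈ C, ⁅x, y⁆ = c} (b := ⁅x, y⁆) ⟨x, hx, y, hy, rfl⟩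
    (fun h1 => hxy (commutatorElement_eq_one_iff_mul_comm.1 h1))
  have hj1 : ∀ x ∈ C, ∀ y ∈ C, ⁅x, y⁆ ^ 2 ^ (j + 1) = 1 := fun x hx y hy => hj _ ⟨x, hx, y, hy, rfl⟩
  have a1 := fun y hy => S.comm_addOn_left h.toSec hA le_rfl (y := y) hy fun x hx => hj1 x hx y hy
  have a2 := fun x hx => S.comm_addOn_right h.toSec hA le_rfl (y := x) hx fun y hy => hj1 x hx y hy
  let R : Subgroup P :=
    { carrier := {a | a ∈ A ∧ ∀ y ∈ C, pw ω j ⁅a, y⁆ = 0}
      mul_mem' := fun {a b} ha hb => ⟨A.mul_mem ha.1 hb.1, fun y hy => by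
        have := a1 y hy a (h.le ha.1) b (h.le hb.1)
        simp only at this
        rw [this, ha.2 y hy, hb.2 y hy, add_zero]⟩
      one_mem' := ⟨A.one_mem, fun y hy => (a1 y hy).one⟩
      inv_mem' := fun {a} ha => ⟨A.inv_mem ha.1, fun y hy => by
        have := (a1 y hy).inv (h.le ha.1)
        rw [this, ha.2 y hy, neg_zero]⟩ }
  have hR : Inv Y R := fun g a ha => ⟨h.invA g a ha.1, fun y hy => by
    have hy' := h.invC g⁻¹ y hy
    rw [← smul_inv_smul g y, ← smul_comm', S.pw_eqv (hj1 _ (h.le ha.1) _ hy'), ha.2 _ hy', S.rho_zero]⟩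
  have hAR : ∀ a ∈ A, a ∈ R := fun a ha =>
    S.mem_of_pow_ne_one hA (B := R) (fun _ h => h.1) hR (b := x₀ * x₀) ⟨h.sq _ hx₀, fun y hy => by
      have := a1 y hy x₀ hx₀ x₀ hx₀
      simp only at this
      rw [this, add_self]⟩ (fun e => hx₀A (hker _ hx₀ e)) ha (he a ha)
  obtain ⟨B, hB⟩ := descend₂ hadd hs (fun x y => pw ω j ⁅x, y⁆) a1 a2
    (fun x hx y hy h0 => (hAR x (hker' x hx h0)).2 y hy)
    (fun x hx y hy h0 => by
      rw [S.pw_swap (hj1 y hy x hx)]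
      exact (hAR y (hker' y hy h0)).2 x hx)
  have hB0 := alt_zero S.card S.two B (fun z hz s t => by
    obtain ⟨g, hg⟩ := S.scal z hz
    obtain ⟨x, hx, rfl⟩ := hs s
    obtain ⟨y, hy, rfl⟩ := hs t
    rw [← hg, ← hg, ← hg, ← S.pw_eqv (he _ (h.sq x hx)), ← S.pw_eqv (he _ (h.sq y hy)), smul_mul',
      smul_mul', hB _ (h.invC g x hx) _ (h.invC g y hy), hB x hx y hy, ← smul_comm',
      S.pw_eqv (hj1 x hx y hy)]) (fun s => by
      obtain ⟨x, hx, rfl⟩ := hs s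
      rw [hB x hx x hx, commutatorElement_self]
      exact S.pw_eq_zero (one_pow _)) (pw ω (m + 1) (x₁ * x₁)) (pw ω (m + 1) (y₁ * y₁))
  rw [hB x₁ hx₁ y₁ hy₁] at hB0
  exact hj' ((S.pw_eq_zero_iff (hj1 _ hx₁ _ hy₁)).1 hB0)

/-- The action of a non-abelian cover on the top two layers of `A` is fixed-point-free. -/
theorem exists_T_nondeg (S : Setup Y n ω ρ) (h : Cover Y A C) (hA : IsAb A) (hC : ¬ IsAb C) {m : ℕ}
    (he : ∀ a ∈ A, a ^ 2 ^ (m + 2) = 1) {b : P} (hb : b ∈ A) (hbm : b ^ 2 ^ (m + 1) ≠ 1) :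
    ∃ T : P → F →+ F, AddOn C T ∧ (∀ u ∈ A, T u = 0) ∧
      (∀ u ∈ C, ∀ a ∈ A, T u (pw ω (m + 1) a) = pw ω m ⁅u, a⁆) ∧
      ∀ u ∈ C, ∀ s, T u s = 0 → u ∈ A ∨ s = 0 := by
  obtain ⟨T, h1, h2, h3, h4⟩ := S.exists_T h.toSec hA he hb hbm
  refine ⟨T, h1, h2, h3, (S.nondeg h h1 h2 h4).resolve_left fun h0 => hC ?_⟩
  have hD : ∀ u ∈ C, ∀ a ∈ A, ⁅u, a⁆ ^ 2 ^ m = 1 := fun u hu a ha =>
    (S.pw_eq_zero_iff (h.D_step S.toBase hA hu ha (he a ha))).1 (by rw [← h3 u hu a ha, h0 u hu]; rfl)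
  have hc : ∀ x ∈ C, ∀ y ∈ C, ⁅x, y⁆ ^ 2 ^ (m + 1) = 1 := fun x hx y hy => by
    have c1 := h.commutator_mem hx hy
    have c2 := hA.commute (h.commutator_mem hx (h.le c1)) (A.mul_mem c1 c1)
    have e : ⁅x * x, y⁆ = ⁅x, ⁅x, y⁆⁆ * (⁅x, y⁆ * ⁅x, y⁆) := by
      rw [commutator_mul_left', commutatorElement_def x ⁅x, y⁆]; group
    have c3 : ⁅x * x, y⁆ ^ 2 ^ m = 1 := by
      rw [← commutatorElement_inv, inv_pow, hD y hy _ (h.sq x hx), inv_one]
    rwa [e, c2.mul_pow, hD x hx _ c1, one_mul, sq_pow_two_pow] at c3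
  refine S.isAb_of_sq h hA he (fun x hx y hy => ?_) fun x hx h5 =>
    S.mem_of_sq h.toSec hA hb hbm hx (hD x hx) h5
  have hadd := S.pw_addOn hA (m := m + 1) he
  have e : x * y * (x * y) = x * x * ((x⁻¹ * ⁅y, x⁆ * x⁻¹⁻¹) * (y * y)) := by
    rw [commutatorElement_def]; group
  have c1 := h.commutator_mem hy hx
  have c2 := h.conj_mem (C.inv_mem hx) c1
  simp only
  rw [e, hadd _ (h.sq x hx) _ (A.mul_mem c2 (h.sq y hy)), hadd _ c2 _ (h.sq y hy),
    S.pw_conj (he _ c1), S.pw_eq_zero (hc y hy x hx), zero_add]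

/-- The structure of a non-abelian cover of an abelian subgroup. -/
theorem cover_main (S : Setup Y n ω ρ) (h : Cover Y A C) (hA : IsAb A) (hC : ¬ IsAb C) :
    (∀ x ∈ C, x * x ∈ S.Om) ∧ (∀ a ∈ A, a ^ 2 ^ 2 = 1) ∧
      ∀ a ∈ A, a ∉ S.Om → ∀ u ∈ C, u ∉ A → u * a ≠ a * u := by
  have := S.fin
  have hsq1 : ¬ ∀ x ∈ C, x * x = 1 := fun h1 => hC fun a ha b hb => comm_of_sq h1 ha hb
  obtain ⟨x₁, hx₁, hx₁'⟩ : ∃ x ∈ C, x * x ≠ 1 := by push Not at hsq1; exact hsq1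
  obtain ⟨m, he, b, hb, hbm⟩ := exists_max_exp S.pgroup (A : Set P) (h.sq _ hx₁) hx₁'
  match m with
  | 0 =>
    have h1 : ∀ a ∈ A, a ∈ S.Om := fun a ha => by simpa [S.mem_Om, sq] using he a ha
    exact ⟨fun x hx => h1 _ (h.sq x hx), fun a ha => pow_two_pow_of_le (he a ha) (by omega),
      fun a ha ha' => absurd (h1 a ha) ha'⟩
  | m + 1 =>
    obtain ⟨T, h1, h2, h3, h4⟩ := S.exists_T_nondeg h hA hC he hb hbm
    have hcomm : ∀ a ∈ A, ∀ u ∈ C, u ∉ A → u * a = a * u → a ^ 2 ^ (m + 1) = 1 := fun a ha u hu hu' e =>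
      (S.pw_eq_zero_iff (he a ha)).1 ((h4 u hu _ (by
        rw [h3 u hu a ha, commutatorElement_eq_one_iff_mul_comm.2 e]
        exact S.pw_eq_zero (one_pow _))).resolve_left hu')
    match m with
    | 0 =>
      refine ⟨fun x hx => ?_, he, fun a ha ha' u hu hu' e => ha' ?_⟩
      · by_cases hxA : x ∈ A
        · simpa [S.mem_Om, pow_succ, mul_assoc] using he x hxA
        · simpa [S.mem_Om, sq] using hcomm _ (h.sq x hx) x hx hxA (mul_assoc _ _ _).symm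
      · simpa [S.mem_Om, sq] using hcomm a ha u hu hu' e
    | m + 1 =>
      exfalso
      have hD : ∀ u ∈ C, ∀ a ∈ A, ⁅u, a⁆ ^ 2 ^ (m + 2) = 1 := fun u hu a ha =>
        h.D_step S.toBase hA hu ha (he a ha)
      have hid : ∀ u ∈ C, ∀ s, T u (T u s) = T u s := fun u hu s => by
        obtain ⟨a, ha, rfl⟩ := S.pw_surj hA h.invA hb hbm s
        obtain ⟨c, hcA, hcc⟩ := S.exists_sqrt hA h.invA hb hbm (h.commutator_mem hu (h.le ha))
          (hD u hu a ha)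
        rw [h3 u hu a ha, ← hcc, pw_sq, h3 u hu c hcA]
        have e1 : ⁅u * u, a⁆ = 1 := commutatorElement_eq_one_iff_mul_comm.2 (hA _ (h.sq _ hu) a ha)
        have e2 : u * (c * c) * u⁻¹ = ⁅u, c * c⁆ * (c * c) := by rw [commutatorElement_def]; group
        rw [commutator_mul_left', ← hcc, e2, h.D_mul hA hu hcA hcA, mul_assoc] at e1
        have e3 : pw ω m (⁅u, c⁆ * ⁅u, c⁆) = pw ω m (c * c * (c * c)) := by
          rw [eq_inv_of_mul_eq_one_left e1, S.pw_inv]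
          rw [sq_pow_two_pow, sq_pow_two_pow, he c hcA]
        rw [pw_sq, pw_sq, pw_sq] at e3
        exact e3
      obtain ⟨z, hz0, hz1⟩ := exists_ne_zero_one S.two_lt
      obtain ⟨u, hu, huz⟩ := S.cover_surj h (κ := fun u => T u 1)
        (fun u hu v hv => by simp only [h1 u hu v hv]; rfl)
        (fun u hu h0 => (h4 u hu 1 h0).resolve_right one_ne_zero) z
      rcases h4 u hu (T u 1 + 1) (by rw [map_add, hid u hu, add_self]) with h5 | h5
      · exact hz0 (by rw [← huz, h2 u h5]; rfl)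
      · exact hz1 (by rw [← huz]; exact add_eq_zero_iff.1 h5)

/-- An element of a non-abelian cover inverts only one coset of `Ω` in `A`. -/
theorem fix_unique (S : Setup Y n ω ρ) (h : Cover Y A C) (hA : IsAb A) (hC : ¬ IsAb C)
    {b : P} (hb : b ∈ A) (hb' : b ∉ S.Om) {u : P} (hu : u ∈ C) (huA : u ∉ A) {a a' : P} (ha : a ∈ A)
    (ha' : a' ∈ A) (h1 : a ∉ S.Om) (h1' : a' ∉ S.Om) (e : u * a * u⁻¹ * a = 1)
    (e' : u * a' * u⁻¹ * a' = 1) : a * a = a' * a' := by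
  classical
  obtain ⟨hsq, he, -⟩ := S.cover_main h hA hC
  have hbm : b ^ 2 ^ (0 + 1) ≠ 1 := by simpa [sq, S.mem_Om] using hb'
  obtain ⟨T, t1, t2, t3, t4⟩ := S.exists_T_nondeg h hA hC (m := 0) he hb hbm
  simp only [zero_add, pw_one, pw_zero] at t3
  have hO : ∀ a ∈ A, a * a ∈ S.Om := fun a ha => hsq a (h.le ha)
  have rel : ∀ {a : P}, a ∈ A → u * a * u⁻¹ * a = 1 → T u (ω (a * a)) = ω (a * a) := by
    intro a ha h1
    have e : ⁅u, a⁆ = (a * a)⁻¹ := by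
      rw [commutatorElement_def, eq_inv_of_mul_eq_one_left h1, mul_inv_rev]
    rw [t3 u hu a ha, e, inv_eq_of_mul_eq_one_right (S.mem_Om.1 (hO a ha))]
  have hex : ∀ s : F, s ≠ 0 → ∃ v ∈ C, T v s = s := fun s hs =>
    S.cover_surj h (κ := fun u => T u s) (fun u hu v hv => by simp only [t1 u hu v hv]; rfl)
      (fun u hu h0 => (t4 u hu s h0).resolve_right hs) s
  choose! v hv hv' using hex
  let Φ : F → F := fun s => if s = 0 then 0 else T (v s) 1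
  have hΦ : ∀ w ∈ C, ∀ s, s ≠ 0 → T w s = s → Φ s = T w 1 := fun w hw s hs hws => by
    have c1 := C.mul_mem (C.inv_mem hw) (hv s hs)
    have c2 : T (w⁻¹ * v s) = -T w + T (v s) := by rw [t1 _ (C.inv_mem hw) _ (hv s hs), t1.inv hw]
    have c3 := t2 _ ((t4 _ c1 s (by
      rw [c2, AddMonoidHom.add_apply, AddMonoidHom.neg_apply, hws, hv' s hs, neg_add_cancel])).resolve_right hs)
    rw [c2, neg_add_eq_zero] at c3
    simp only [Φ, if_neg hs, c3]
  have hsurj : Function.Surjective Φ := fun t => by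
    by_cases ht : t = 0
    · exact ⟨0, by simp [Φ, ht]⟩
    obtain ⟨w, hw, hwt⟩ := S.cover_surj h (κ := fun u => T u 1)
      (fun u hu v hv => by simp only [t1 u hu v hv]; rfl)
      (fun u hu h0 => (t4 u hu 1 h0).resolve_right one_ne_zero) t
    have hwA : w ∉ A := fun hwA => ht (by rw [← hwt, t2 w hwA]; rfl)
    by_contra hne
    have hinj : Function.Injective (T w + AddMonoidHom.id F) := (injective_iff_map_eq_zero _).2 fun s hs => by
      by_contra hs0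
      exact hne ⟨s, by rw [hΦ w hw s hs0 (add_eq_zero_iff.1 hs), hwt]⟩
    obtain ⟨s, hs⟩ := Finite.injective_iff_surjective.1 hinj (ω (w * w))
    obtain ⟨c, hc, rfl⟩ := S.pw_surj hA h.invA hb hbm s
    have hD : ⁅w, c⁆ ∈ S.Om := by
      simpa [S.mem_Om, sq] using h.D_step S.toBase hA hw hc (j := 1) (he c hc)
    have h4 : c * w ∈ S.Om := by
      have e : c * w * (c * w) = c * (⁅w, c⁆ * c) * (w * w) := by rw [commutatorElement_def]; group
      rw [S.mem_Om, e, ← S.comm_Om hD c, ← mul_assoc c]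
      refine S.inj _ (S.Om.mul_mem (S.Om.mul_mem (hO c hc) hD) (hsq w hw)) ?_
      rw [S.add _ (S.Om.mul_mem (hO c hc) hD) _ (hsq w hw), S.add _ (hO c hc) _ hD, ← hs, ← t3 w hw c hc,
        zero_add, pw_one, AddMonoidHom.add_apply, AddMonoidHom.id_apply, add_comm (ω (c * c)), add_self]
    have h5 := S.Om_le h.invA hb (fun h1 => hb' (h1 ▸ S.Om.one_mem)) h4
    exact hwA (by simpa using A.mul_mem (A.inv_mem hc) h5)
  have n1 : ω (a * a) ≠ 0 := fun h0 => h1 (S.inj _ (hO a ha) h0)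
  have n2 : ω (a' * a') ≠ 0 := fun h0 => h1' (S.inj _ (hO a' ha') h0)
  have e3 := Finite.injective_iff_surjective.2 hsurj
    ((hΦ u hu _ n1 (rel ha e)).trans (hΦ u hu _ n2 (rel ha' e')).symm)
  have e4 := S.inj _ (S.Om.mul_mem (hO a ha) (hO a' ha')) (by
    rw [S.add _ (hO a ha) _ (hO a' ha'), e3, add_self])
  rw [eq_inv_of_mul_eq_one_left e4, inv_eq_of_mul_eq_one_right (S.mem_Om.1 (hO a' ha'))]

end Setup

end CL.Shaw
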