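/-
Suzuki 2-groups with a transitive semilinear group of automorphisms of odd order: all squares are
involutions or trivial.
-/
import Cfsg.Agent.Suz.Shaw2
import Cfsg.Agent.Grp.CoprimeAct

set_option autoImplicit false

namespace CL.Shaw

open CL.Higman (AddOn IsAb exists_pow_involution pow_two_pow_succ sq_pow_two_pow pow_two_pow_of_le pw
  pw_zero pw_one pw_sq commutator_mul_left' commutator_mul_right' commutator_mem_of_sq conj_mem_of_sq
  comm_of_sq exists_max_exp add_self add_eq_zero_iff exists_ne_zero_one)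
open scoped commutatorElement

universe u v

variable {P : Type u} [Group P] {Y : Type v} [Group Y] [MulDistribMulAction Y P]

theorem exists_max_ab [Finite P] {N : Subgroup P} (h1 : IsAb N) (h2 : N.Normal) (h3 : Inv Y N) :
    ∃ A : Subgroup P, N ≤ A ∧ IsAb A ∧ A.Normal ∧ Inv Y A ∧
      ∀ C : Subgroup P, IsAb C → C.Normal → Inv Y C → A ≤ C → C ≤ A := by
  obtain ⟨A, hA, hmax⟩ := Finite.exists_le_maximal (p := fun A : Subgroup P => IsAb A ∧ A.Normal ∧ Inv Y A)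
    (a := N) ⟨h1, h2, h3⟩
  exact ⟨A, hA, hmax.1.1, hmax.1.2.1, hmax.1.2.2, fun C c1 c2 c3 c4 => hmax.2 ⟨c1, c2, c3⟩ c4⟩

theorem Base.exists_normal_cover (S : Base P Y) {A M : Subgroup P} (hA : A.Normal) (hM : M.Normal)
    (hAI : Inv Y A) (hMI : Inv Y M) (hAM : A ≤ M) (hne : ¬ M ≤ A) :
    ∃ C : Subgroup P, C ≤ M ∧ C.Normal ∧ Cover Y A C ∧ ∀ x ∈ C, ∀ g, ⁅x, g⁆ ∈ A := by
  have := S.fin
  let C₀ : Subgroup P :=
    { carrier := {x | x ∈ M ∧ x * x ∈ A ∧ ∀ g, ⁅x, g⁆ ∈ A}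
      mul_mem' := fun {a b} ha hb => ⟨M.mul_mem ha.1 hb.1, by
        have e : a * b * (a * b) = a * ⁅b, a⁆ * a⁻¹ * (a * a) * (b * b) := by
          rw [commutatorElement_def]; group
        rw [e]
        exact A.mul_mem (A.mul_mem (hA.conj_mem _ (hb.2.2 a) a) ha.2.1) hb.2.1, fun g => by
        rw [commutator_mul_left']
        exact A.mul_mem (hA.conj_mem _ (hb.2.2 g) a) (ha.2.2 g)⟩
      one_mem' := ⟨M.one_mem, by simp, fun g => by simp⟩
      inv_mem' := fun {a} ha => ⟨M.inv_mem ha.1, by rw [← mul_inv_rev]; exact A.inv_mem ha.2.1, fun g => by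
        have e : ⁅a⁻¹, g⁆ = a⁻¹ * ⁅a, g⁆⁻¹ * a⁻¹⁻¹ := by simp only [commutatorElement_def]; group
        rw [e]
        exact hA.conj_mem _ (A.inv_mem (ha.2.2 g)) _⟩ }
  have hI : Inv Y C₀ := fun k a ha => ⟨hMI k a ha.1, by rw [← smul_mul']; exact hAI _ _ ha.2.1, fun g => by
    rw [← smul_inv_smul k g, ← smul_comm']
    exact hAI _ _ (ha.2.2 _)⟩
  have hAC : A ≤ C₀ := fun a ha => ⟨hAM ha, A.mul_mem ha ha, fun g => by
    rw [commutatorElement_def, mul_assoc, mul_assoc, ← mul_assoc g]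
    exact A.mul_mem ha (hA.conj_mem _ (A.inv_mem ha) g)⟩
  obtain ⟨x, hx, hxA, hx2, hxc⟩ := CL.Grp.exists_central_mod_of_not_le S.pgroup hne
  obtain ⟨C, c1, c2⟩ := Sec.exists_cover (Y := Y) ⟨hAC, hAI, hI, fun a ha => ha.2.1⟩
    fun h => hxA (h ⟨hx, by rwa [← sq], hxc⟩)
  exact ⟨C, fun a ha => (c1 ha).1,
    CL.Grp.normal_of_commutator_mem fun a ha g => c2.le ((c1 ha).2.2 g), c2, fun a ha => (c1 ha).2.2⟩

/-- Induction along the covers of `A` when `P / A` is elementary abelian. -/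
theorem Base.cover_induction [Finite Y] (S : Base P Y) (hodd : Odd (Nat.card Y)) {A : Subgroup P}
    (hI : Inv Y A) (hsq : ∀ x : P, x * x ∈ A) {p : P → Prop} (hA : ∀ a ∈ A, p a)
    (hC : ∀ C : Subgroup P, Cover Y A C → ∀ u ∈ C, p u)
    (hmul : ∀ x y, p x → p y → p (x * y)) (x : P) : p x := by
  have := S.fin
  let s : Set P := {u | u ∈ A ∨ ∃ C : Subgroup P, Cover Y A C ∧ u ∈ C}
  have hs : ∀ u ∈ Subgroup.closure s, p u ∧ ∀ g : Y, g • u ∈ Subgroup.closure s := by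
    intro u hu
    induction hu using Subgroup.closure_induction'' with
    | one => exact ⟨hA 1 A.one_mem, fun g => by rw [smul_one]; exact Subgroup.one_mem _⟩
    | mem u hu =>
      rcases hu with hu | ⟨C, h, hu⟩
      · exact ⟨hA u hu, fun g => Subgroup.subset_closure (Or.inl (hI g u hu))⟩
      · exact ⟨hC C h u hu, fun g => Subgroup.subset_closure (Or.inr ⟨C, h, h.invC g u hu⟩)⟩
    | inv_mem u hu =>
      rcases hu with hu | ⟨C, h, hu⟩
      · exact ⟨hA _ (A.inv_mem hu), fun g => Subgroup.subset_closure (Or.inl (hI g _ (A.inv_mem hu)))⟩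
      · exact ⟨hC C h _ (C.inv_mem hu), fun g =>
          Subgroup.subset_closure (Or.inr ⟨C, h, h.invC g _ (C.inv_mem hu)⟩)⟩
    | mul u w _ _ h1 h2 =>
      exact ⟨hmul _ _ h1.1 h2.1, fun g => by rw [smul_mul']; exact Subgroup.mul_mem _ (h1.2 g) (h2.2 g)⟩
  suffices h : Subgroup.closure s = ⊤ from (hs x (h ▸ Subgroup.mem_top x)).1
  have hAs : A ≤ Subgroup.closure s := fun a ha => Subgroup.subset_closure (Or.inl ha)
  have hN : A.Normal := ⟨fun a ha g => conj_mem_of_sq (X := ⊤) le_top (fun a _ => hsq a) trivial ha⟩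
  have h2 : ∀ v : P ⧸ A, v * v = 1 := by
    intro v
    obtain ⟨a, rfl⟩ := QuotientGroup.mk_surjective v
    rw [← QuotientGroup.mk_mul, QuotientGroup.eq_one_iff]
    exact hsq a
  let _ : CommGroup (P ⧸ A) :=
    { QuotientGroup.Quotient.group _ with
      mul_comm := fun v w => comm_of_sq (X := ⊤) (fun a _ => h2 a) trivial trivial }
  let _ := CL.Grp.quotAction (A := Y) A hI
  let U := (Subgroup.closure s).map (QuotientGroup.mk' A)
  obtain ⟨E, e1, e2⟩ : ∃ E : Subgroup (P ⧸ A), U ⊓ E = ⊥ ∧ U ⊔ E = ⊤ := by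
    let _ : Module (ZMod 2) (Additive (P ⧸ A)) :=
      AddCommGroup.zmodModule fun v => by rw [two_nsmul]; exact h2 v.toMul
    obtain ⟨W, hW⟩ := (AddSubgroup.toZModSubmodule 2 U.toAddSubgroup).exists_isCompl
    have h1 := (AddSubgroup.toZModSubmodule 2).symm.isCompl hW
    have := Subgroup.toAddSubgroup.symm.isCompl h1
    simp only [OrderIso.symm_apply_apply] at this
    exact ⟨_, this.inf_eq_bot, this.sup_eq_top⟩
  obtain ⟨k, hk⟩ := ((S.pgroup.to_quotient A).to_subgroup U).exists_card_eq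
  obtain ⟨W, h3, h4, h5⟩ := CL.Grp.act_exists_invariant_complement (A := Y) (U := U) (W := E)
    (by rintro g _ ⟨x, hx, rfl⟩; exact ⟨g • x, (hs x hx).2 g, rfl⟩)
    (by rw [hk]; exact (Nat.coprime_two_right.2 hodd).pow_right k) e1 e2
  have h6 : U.comap (QuotientGroup.mk' A) = Subgroup.closure s :=
    Subgroup.comap_map_eq_self (by rwa [QuotientGroup.ker_mk'])
  have hAW : A ≤ W.comap (QuotientGroup.mk' A) := by
    conv_lhs => rw [← QuotientGroup.ker_mk' A]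
    exact Subgroup.ker_le_comap _ _
  by_cases h7 : W.comap (QuotientGroup.mk' A) ≤ A
  · rw [eq_top_iff, ← Subgroup.comap_top (QuotientGroup.mk' A), ← h5,
      ← Subgroup.comap_sup_eq _ _ _ (QuotientGroup.mk'_surjective _), h6]
    exact sup_le le_rfl (h7.trans hAs)
  obtain ⟨C, c1, c2⟩ := Sec.exists_cover (Y := Y) ⟨hAW, hI, fun g x hx => h3 g _ hx, fun a _ => hsq a⟩ h7
  refine (c2.ne fun u hu => ?_).elim
  have h8 : (u : P ⧸ A) ∈ U ⊓ W := ⟨⟨u, Subgroup.subset_closure (Or.inr ⟨C, c2, hu⟩), rfl⟩, c1 hu⟩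
  rw [h4, Subgroup.mem_bot, QuotientGroup.eq_one_iff] at h8
  exact h8

namespace Setup

variable {F : Type*} [Field F] [Finite F] [CharP F 2] {n : ℕ} {ω : P → F} {ρ : Y → F → F}

theorem exists_third (S : Setup Y n ω ρ) {A C : Subgroup P} (h : Cover Y A C) {x : P} (hx : x ∈ C) :
    ∃ z ∈ C, z ∉ A ∧ x⁻¹ * z ∉ A := by
  classical
  by_contra hc
  push Not at hc
  obtain ⟨t, ht0, ht1⟩ := exists_ne_zero_one S.two_lt
  obtain ⟨u, -, hu⟩ := S.cover_surj h (κ := fun u => if u ∈ A then 0 else 1) (fun u hu v hv => by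
    by_cases h1 : u ∈ A <;> by_cases h2 : v ∈ A
    · simp [h1, h2, A.mul_mem h1 h2]
    · simp [h1, h2, A.mul_mem_cancel_left h1]
    · simp [h1, h2, A.mul_mem_cancel_right h2]
    · have e : u * v = x * (x⁻¹ * u) * x⁻¹ * (x * x) * (x⁻¹ * v) := by group
      have h3 : u * v ∈ A := e ▸ A.mul_mem (A.mul_mem (h.conj_mem hx (hc u hu h1)) (h.sq x hx)) (hc v hv h2)
      simp [h1, h2, h3, add_self]) (fun u _ h0 => by by_contra h1; simp [h1] at h0) t
  by_cases h1 : u ∈ A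
  · exact ht0 (by simpa [h1] using hu.symm)
  · exact ht1 (by simpa [h1] using hu.symm)

/-- Two covers of an abelian subgroup of exponent four commute modulo `Ω`. -/
theorem commutator_mem_Om (S : Setup Y n ω ρ) {A : Subgroup P} (hA : IsAb A) (hsq : ∀ x : P, x * x ∈ A)
    {b : P} (hb : b ∈ A) (hb' : b ∉ S.Om) {C₁ C₂ : Subgroup P} (h₁ : Cover Y A C₁) (h₂ : Cover Y A C₂)
    (n₁ : ¬ IsAb C₁) (n₂ : ¬ IsAb C₂) {x y : P} (hx : x ∈ C₁) (hy : y ∈ C₂) : ⁅x, y⁆ ∈ S.Om := by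
  obtain ⟨s₁, he, nc⟩ := S.cover_main h₁ hA n₁
  obtain ⟨s₂, -⟩ := S.cover_main h₂ hA n₂
  have hc : ∀ x y : P, ⁅x, y⁆ ∈ A := fun x y =>
    commutator_mem_of_sq (X := ⊤) (fun a _ => hsq a) trivial trivial
  have hj : ∀ g a : P, a ∈ A → g * a * g⁻¹ ∈ A := fun g a ha =>
    conj_mem_of_sq (X := ⊤) le_top (fun a _ => hsq a) trivial ha
  by_cases hyA : y ∈ A
  · simpa [S.mem_Om, sq] using h₁.D_step S.toBase hA hx hyA (j := 1) (he y hyA)
  have i1 : ∀ x ∈ C₁, x * ⁅x, y⁆ * x⁻¹ * ⁅x, y⁆ = 1 := fun x hx => by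
    rw [← commutator_mul_left', commutatorElement_eq_one_iff_mul_comm]
    exact (S.comm_Om (s₁ x hx) y).symm
  have i2 : ∀ x, y * ⁅x, y⁆ * y⁻¹ * ⁅x, y⁆ = 1 := fun x => by
    rw [hA _ (hj _ _ (hc x y)) _ (hc x y), ← commutator_mul_right', commutatorElement_eq_one_iff_mul_comm]
    exact S.comm_Om (s₂ y hy) x
  have huniq : ∀ x ∈ C₁, ∀ x' ∈ C₁, ⁅x, y⁆ ∉ S.Om → ⁅x', y⁆ ∉ S.Om → x⁻¹ * x' ∈ A := by
    intro x hx x' hx' h1 h2
    have e := S.fix_unique h₂ hA n₂ hb hb' hy hyA (hc x y) (hc x' y) h1 h2 (i2 x) (i2 x')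
    have j1 := i1 x hx
    have j2 := i1 x' hx'
    have k1 := hc x y
    have k2 := hc x' y
    generalize ⁅x, y⁆ = c at e j1 k1 h1
    generalize ⁅x', y⁆ = c' at e j2 k2
    have hw : c⁻¹ * c' ∈ S.Om := by
      rw [S.mem_Om, ← sq, hA.mul_pow (A.inv_mem k1) k2, inv_pow, sq, sq, e, inv_mul_cancel]
    obtain ⟨w, hw', rfl⟩ : ∃ w ∈ S.Om, c' = c * w := ⟨_, hw, by group⟩
    have j3 : x' * c * x'⁻¹ * c = 1 := by
      have e1 : x' * (c * w) * x'⁻¹ * (c * w) = x' * c * x'⁻¹ * (x' * w * x'⁻¹ * c) * w := by group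
      rwa [e1, S.conj_Om hw', ← S.comm_Om hw' c, mul_assoc, mul_assoc c, S.mem_Om.1 hw', mul_one] at j2
    by_contra hne
    refine nc c k1 h1 _ (C₁.mul_mem (C₁.inv_mem hx) hx') hne ?_
    have e2 : x' * c * x'⁻¹ = x * c * x⁻¹ := mul_right_cancel (j3.trans j1.symm)
    calc x⁻¹ * x' * c = x⁻¹ * (x' * c * x'⁻¹) * x' := by group
      _ = c * (x⁻¹ * x') := by rw [e2]; group
  by_contra hxy
  obtain ⟨z, hz, hzA, hzx⟩ := S.exists_third h₁ hx
  by_cases h3 : ⁅z, y⁆ ∈ S.Om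
  · refine hzA ?_
    have := huniq x hx _ (C₁.mul_mem hx hz) hxy (by
      rw [commutator_mul_left', S.conj_Om h3]
      exact fun h => hxy ((S.Om.mul_mem_cancel_left h3).1 h))
    rwa [inv_mul_cancel_left] at this
  · exact hzx (huniq x hx z hz hxy h3)

theorem center_eq (S : Setup Y n ω ρ) (hP : ¬ IsAb (⊤ : Subgroup P)) : Subgroup.center P = S.Om := by
  have := S.fin
  refine le_antisymm ?_ fun x hx => S.mem_center hx
  obtain ⟨A, a1, a2, a3, a4, a5⟩ := exists_max_ab (Y := Y) (N := Subgroup.center P)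
    (fun a _ b hb => Subgroup.mem_center_iff.1 hb a) inferInstance inv_center
  obtain ⟨C, -, c2, c3, -⟩ := S.exists_normal_cover a3 (M := ⊤) inferInstance a4 inv_top le_top
    fun h => hP fun a ha b hb => a2 a (h ha) b (h hb)
  obtain ⟨u, hu, huA⟩ := SetLike.not_le_iff_exists.1 c3.ne
  have hC : ¬ IsAb C := fun h => huA (a5 C h c2 c3.invC c3.le hu)
  intro z hz
  by_contra hz'
  exact (S.cover_main c3 a2 hC).2.2 z (a1 hz) hz' u hu huA (Subgroup.mem_center_iff.1 hz u)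

/-- In a non-abelian group all squares lie in `Ω`. -/
theorem sq_mem_Om [Finite Y] (S : Setup Y n ω ρ) (hodd : Odd (Nat.card Y)) (hP : ¬ IsAb (⊤ : Subgroup P))
    (x : P) : x * x ∈ S.Om := by
  have := S.fin
  have hON := S.normal_Om
  by_contra hx
  let M : Subgroup P := Subgroup.closure ({y | ∃ g, g * g = y} ∪ S.Om)
  have hM : M.Normal := ⟨fun a ha g => by
    have : M.map (MulAut.conj g).toMonoidHom ≤ M := by
      rw [MonoidHom.map_closure, Subgroup.closure_le]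
      rintro _ ⟨y, ⟨z, rfl⟩ | hy, rfl⟩
      · exact Subgroup.subset_closure (Or.inl ⟨_, (map_mul _ _ _).symm⟩)
      · exact Subgroup.subset_closure (Or.inr (hON.conj_mem _ hy g))
    exact this ⟨a, ha, rfl⟩⟩
  have hMI : Inv Y M := fun k a ha => by
    have : M.map (MulDistribMulAction.toMonoidHom P k) ≤ M := by
      rw [MonoidHom.map_closure, Subgroup.closure_le]
      rintro _ ⟨y, ⟨z, rfl⟩ | hy, rfl⟩
      · exact Subgroup.subset_closure (Or.inl ⟨_, (map_mul _ _ _).symm⟩)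
      · exact Subgroup.subset_closure (Or.inr (S.inv_Om _ _ hy))
    exact this ⟨a, ha, rfl⟩
  have hsqM : ∀ g : P, g * g ∈ M := fun g => Subgroup.subset_closure (Or.inl ⟨g, rfl⟩)
  obtain ⟨N, n1, n2, n3, n4⟩ := S.exists_normal_cover hON hM S.inv_Om hMI
    (fun a ha => Subgroup.subset_closure (Or.inr ha)) fun h => hx (h (hsqM x))
  have hMN : M ≤ Subgroup.centralizer N := by
    rw [Subgroup.closure_le]
    rintro _ (⟨g, rfl⟩ | hy) n hn
    · rw [← commutatorElement_eq_one_iff_mul_comm, commutator_mul_right', S.conj_Om (n4 n hn g)]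
      exact n4 n hn g
    · exact S.comm_Om hy n
  have hNab : IsAb N := fun a ha b hb => hMN (n1 hb) a ha
  obtain ⟨A, a1, a2, a3, a4, a5⟩ := exists_max_ab hNab n2 n3.invC
  obtain ⟨b, hbN, hb'⟩ := SetLike.not_le_iff_exists.1 n3.ne
  have hnab : ∀ {C : Subgroup P}, Cover Y A C → C.Normal → ¬ IsAb C := fun {C} c hC h =>
    c.ne (a5 C h hC c.invC c.le)
  obtain ⟨C, -, c2, c3, -⟩ := S.exists_normal_cover a3 (M := ⊤) inferInstance a4 inv_top le_top
    fun h => hP fun a ha b hb => a2 a (h ha) b (h hb)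
  have he := (S.cover_main c3 a2 (hnab c3 c2)).2.1
  have hAN : A ≤ N := fun a ha => S.mem_of_pow_ne_one a2 a1 n3.invC (j := 1) hbN
    (by simpa [sq, S.mem_Om] using hb') ha (he a ha)
  have hCA : Subgroup.centralizer A ≤ A := by
    by_contra hne
    obtain ⟨C', d1, d2, d3, -⟩ := S.exists_normal_cover a3 (M := Subgroup.centralizer A)
      inferInstance a4 (fun k g hg a ha => by
        rw [← smul_inv_smul k a, ← smul_mul', hg _ (a4 _ _ ha), smul_mul'])
      (fun a ha b hb => a2 b hb a ha) hne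
    obtain ⟨u, hu, huA⟩ := SetLike.not_le_iff_exists.1 d3.ne
    exact (S.cover_main d3 a2 (hnab d3 d2)).2.2 b (a1 hbN) hb' u hu huA (d1 hu b (a1 hbN)).symm
  have hsq : ∀ g : P, g * g ∈ A := fun g => hCA fun a ha => hMN (hsqM g) a (hAN ha)
  have hnab' : ∀ {C : Subgroup P}, Cover Y A C → ¬ IsAb C := fun c =>
    hnab c (CL.Grp.normal_of_commutator_mem fun a _ g =>
      c.le (commutator_mem_of_sq (X := ⊤) (fun a _ => hsq a) trivial trivial))
  have hswap : ∀ {x y : P}, ⁅x, y⁆ ∈ S.Om → ⁅y, x⁆ ∈ S.Om := fun h => by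
    rw [← commutatorElement_inv]; exact S.Om.inv_mem h
  have hl : ∀ y : P, (∀ C : Subgroup P, Cover Y A C → ∀ u ∈ C, ⁅u, y⁆ ∈ S.Om) →
      ∀ x, ⁅x, y⁆ ∈ S.Om := fun y hy =>
    S.cover_induction hodd a4 hsq (fun a ha => n4 a (hAN ha) y) hy fun a b ha hb => by
      rw [commutator_mul_left']
      exact S.Om.mul_mem (hON.conj_mem _ hb a) ha
  have hcomm : ∀ x y : P, ⁅x, y⁆ ∈ S.Om := fun x y =>
    hl y (fun C c u hu => hswap (hl u (fun C' c' v hv =>
      S.commutator_mem_Om a2 hsq (a1 hbN) hb' c' c (hnab' c') (hnab' c) hv hu) y)) x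
  refine hx (S.cover_induction hodd a4 hsq (p := fun x => x * x ∈ S.Om)
    (fun a ha => by simpa [S.mem_Om, pow_succ, mul_assoc] using he a ha)
    (fun C c => (S.cover_main c a2 (hnab' c)).1) (fun a b ha hb => ?_) x)
  have e : a * b * (a * b) = a * ⁅b, a⁆ * a⁻¹ * (a * a) * (b * b) := by
    rw [commutatorElement_def]; group
  rw [e]
  exact S.Om.mul_mem (S.Om.mul_mem (hON.conj_mem _ (hcomm b a) a) ha) hb

end Setup

end CL.Shaw
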