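/-
Shaw's form of Higman's theorem: a non-abelian 2-group with a solvable group of automorphisms transitive on
its (at least two) involutions has exponent four and centre `Ω`.
-/
import Cfsg.Agent.Suz.Shaw3
import Cfsg.Agent.S3360
import Cfsg.Agent.Grp.Hall
import Cfsg.Agent.Grp.SylowIn

set_option autoImplicit false

namespace CL.Shaw

open CL.Higman (AddOn IsAb)

universe u v

variable {P : Type u} [Group P] {Y : Type v} [Group Y] [MulDistribMulAction Y P]

theorem Base.two_lt (S : Base P Y)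
    (h2 : ∃ x y : P, x ≠ y ∧ x ≠ 1 ∧ x * x = 1 ∧ y ≠ 1 ∧ y * y = 1) : 2 < Nat.card S.Om := by
  classical
  have := S.fin
  obtain ⟨x, y, hxy, hx1, hx, hy1, hy⟩ := h2
  have := Fintype.ofFinite S.Om
  rw [Nat.card_eq_fintype_card, ← Finset.card_univ, Finset.two_lt_card_iff]
  exact ⟨⟨x, hx⟩, ⟨y, hy⟩, 1, by simp, by simp, by simp, fun h => hxy (congrArg Subtype.val h),
    fun h => hx1 (congrArg Subtype.val h), fun h => hy1 (congrArg Subtype.val h)⟩

theorem Base.exists_setup [Finite Y] (S : Base P Y) (hY : Group.IsSolvable Y)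
    (h2 : ∃ x y : P, x ≠ y ∧ x ≠ 1 ∧ x * x = 1 ∧ y ≠ 1 ∧ y * y = 1) :
    ∃ (F : Type) (_ : Field F) (_ : Finite F) (_ : CharP F 2) (n : ℕ) (ω : P → F) (ρ : Y → F → F),
      Setup Y n ω ρ := by
  classical
  have := S.fin
  have hq := S.two_lt h2
  obtain ⟨n, hn⟩ := (S.pgroup.to_subgroup S.Om).exists_card_eq
  have hn2 : 2 ≤ n := by
    by_contra h
    have : 2 ^ n ≤ 2 ^ 1 := Nat.pow_le_pow_right (by norm_num) (by omega)
    omega
  let _ : CommGroup S.Om :=
    { (inferInstance : Group S.Om) with mul_comm := fun a b => Subtype.ext (S.comm_Om b.2 a) }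
  let _ := CL.Grp.subAction (A := Y) S.Om S.inv_Om
  have hvv : ∀ v : Additive S.Om, v + v = 0 := fun v => Subtype.ext v.toMul.2
  let _ : Module (ZMod 2) (Additive S.Om) :=
    AddCommGroup.zmodModule fun v => by rw [two_nsmul]; exact hvv v
  let E : Y → Additive S.Om ≃+ Additive S.Om := fun g =>
    MulEquiv.toAdditive (MulDistribMulAction.toMulEquiv S.Om g)
  let r : Y →* (Additive S.Om ≃ₗ[ZMod 2] Additive S.Om) :=
    MonoidHom.mk' (fun g => (E g).toLinearEquiv fun c x => ZMod.map_smul (E g) c x) fun g h => by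
      ext x
      exact mul_smul g h (x.toMul : P)
  have hr : ∀ g (x : S.Om), r g (Additive.ofMul x) = Additive.ofMul (g • x) := fun _ _ => rfl
  have : Nontrivial (Additive S.Om) := Finite.one_lt_card_iff_nontrivial.1 (by
    change 1 < Nat.card S.Om; omega)
  have htr : ∀ v w : Additive S.Om, v ≠ 0 → w ≠ 0 → ∃ g : Y, r g v = w := fun v w hv hw => by
    obtain ⟨g, hg⟩ := S.trans v.toMul w.toMul (fun h => hv (Subtype.ext h)) v.toMul.2
      (fun h => hw (Subtype.ext h)) w.toMul.2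
    exact ⟨g, Subtype.ext hg⟩
  have : Finite r.range := Finite.of_surjective _ r.rangeRestrict_surjective
  rcases Cfsg.Agent.S3360.result 2 (G := r.range)
    (Group.isSolvable_of_surjective r.rangeRestrict_surjective) r.range.subtype Subtype.val_injective
    (fun v w hv hw => by
      obtain ⟨g, hg⟩ := htr v w hv hw
      exact ⟨⟨r g, g, rfl⟩, hg⟩) with ⟨F, _, _, e, he⟩ | h
  swap
  · exfalso
    have h1 : 2 ∣ Nat.card (Additive S.Om) := by
      change 2 ∣ Nat.card S.Om
      rw [hn]; exact dvd_pow_self 2 (by omega)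
    simp only [Set.mem_insert_iff, Set.mem_singleton_iff] at h
    omega
  have hF : Nat.card F = 2 ^ n := by rw [← Nat.card_congr e.toEquiv, ← hn]; rfl
  have hc : CharP F 2 := (CharP.charP_iff_prime_eq_zero Nat.prime_two).2 (by
    have := congrArg e (hvv (e.symm 1))
    rw [map_add, e.apply_symm_apply, map_zero] at this
    exact_mod_cast (one_add_one_eq_two (R := F)).symm.trans this)
  let ρ : Y → F → F := fun g t => e (r g (e.symm t))
  have hsemi : ∀ g, ∃ (c : F) (σ : F ≃+* F), ∀ x, ρ g x = c * σ x := fun g => by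
    obtain ⟨c, σ, h⟩ := he ⟨r g, g, rfl⟩
    exact ⟨c, σ, fun x => by simpa using h (e.symm x)⟩
  refine ⟨F, inferInstance, inferInstance, hc, n,
    fun x => if h : x ∈ S.Om then e (Additive.ofMul ⟨x, h⟩) else 0, ρ, S, hF, hn2,
    fun a ha b hb => ?_, fun a ha h0 => ?_, fun t => ?_, fun g a ha => ?_, fun g => ?_, fun x hx => ?_⟩
  · simp only [dif_pos ha, dif_pos hb, dif_pos (S.Om.mul_mem ha hb), ← map_add]
    rfl
  · rw [dif_pos ha, map_eq_zero_iff _ e.injective] at h0
    exact congrArg Subtype.val h0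
  · exact ⟨(e.symm t).toMul, (e.symm t).toMul.2, by rw [dif_pos (e.symm t).toMul.2]; simp⟩
  · rw [dif_pos ha, dif_pos (S.inv_Om g a ha)]
    simp only [ρ, e.symm_apply_apply, hr]
    rfl
  · obtain ⟨c, σ, h⟩ := hsemi g
    refine ⟨c, σ, fun h0 => ?_, h⟩
    have := h 1
    simp [ρ, h0] at this
  · refine exists_scalar hF ρ (fun g h x => by simp [ρ]) (fun x => by simp [ρ]) hsemi (fun x hx => ?_) hx
    obtain ⟨g, hg⟩ := htr (e.symm 1) (e.symm x) (by simp) (by simpa using hx)
    exact ⟨g, by simp [ρ, hg]⟩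

theorem Base.exists_odd [Finite Y] (S : Base P Y) (hY : Group.IsSolvable Y) :
    ∃ H : Subgroup Y, Odd (Nat.card H) ∧ Base P H := by
  classical
  have := S.fin
  obtain ⟨H, h1, h2⟩ := CL.Grp.exists_piHall_of_solvable {2}ᶜ Y
  refine ⟨H, Nat.not_even_iff_odd.1 fun h => h1 2 Nat.prime_two h.two_dvd rfl, S.fin, S.pgroup,
    fun x y hx1 hx hy1 hy => ?_⟩
  obtain ⟨g, rfl⟩ := S.trans x y hx1 hx hy1 hy
  have hodd : Odd (MulAction.stabilizer Y x).index := by
    have := Fintype.ofFinite P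
    have e : MulAction.orbit Y x = (S.Om : Set P) \ {1} := by
      ext z
      refine ⟨?_, fun hz => S.trans x z hx1 hx hz.2 hz.1⟩
      rintro ⟨k, rfl⟩
      refine ⟨S.inv_Om k x hx, fun h => hx1 ?_⟩
      have h' : k • x = 1 := h
      rwa [← smul_one k, smul_left_cancel_iff] at h'
    rw [MulAction.index_stabilizer, e, Set.ncard_sdiff_singleton_of_mem S.Om.one_mem]
    obtain ⟨n, hn⟩ := (S.pgroup.to_subgroup S.Om).exists_card_eq
    have h3 : (S.Om : Set P).ncard = 2 ^ n := hn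
    have h4 : n ≠ 0 := by
      rintro rfl
      exact hx1 ((Subgroup.eq_bot_iff_forall _).1 (Subgroup.card_eq_one.1 hn) x hx)
    rw [h3]
    exact Nat.Even.sub_odd Nat.one_le_two_pow (Nat.even_pow.2 ⟨even_two, h4⟩) odd_one
  obtain ⟨a, ha, b, hb, rfl⟩ := CL.Grp.exists_mul_eq_of_coprime_index (A := H)
    (B := MulAction.stabilizer Y x) (Nat.coprime_of_dvd fun p hp hpH hpx => by
      by_cases h : p = 2
      · subst h; exact (Nat.not_even_iff_odd.2 hodd) (even_iff_two_dvd.2 hpx)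
      · exact h2 p hp h hpH) g
  exact ⟨⟨a, ha⟩, by rw [mul_smul, MulAction.mem_stabilizer_iff.1 hb]; rfl⟩

theorem Base.main [Finite Y] (S : Base P Y) (hY : Group.IsSolvable Y)
    (h2 : ∃ x y : P, x ≠ y ∧ x ≠ 1 ∧ x * x = 1 ∧ y ≠ 1 ∧ y * y = 1) (hP : ¬ IsAb (⊤ : Subgroup P)) :
    Subgroup.center P = S.Om ∧ ∀ x : P, x * x ∈ S.Om := by
  obtain ⟨H, hodd, T⟩ := S.exists_odd hY
  obtain ⟨F, _, _, _, n, ω, ρ, U⟩ := T.exists_setup inferInstance h2
  exact ⟨U.center_eq hP, U.sq_mem_Om hodd hP⟩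

end CL.Shaw
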